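import Mathlib

/-!
# The list of the centralizer orders of the symmetric and the alternating group (helper367)

`zl k n` : the numbers `∏ i ^ m_i m_i !` over the partitions of `n` with parts at most `k`.
`sym_mem`, `sym_exists` : the orders of the centralizers in the symmetric group of degree `n` are the numbers of
`zl n n`.  `al k n` : the same with the parity and the flag "distinct odd parts", for the alternating group.
-/

set_option autoImplicit false

namespace Cfsg.Agent.H367.ClsList

open Nat Equiv.Perm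

/-- `∏ i ^ m_i m_i !` -/
def zval (s : Multiset ℕ) : ℕ := s.prod * ∏ i ∈ s.toFinset, (s.count i)!

/-- the list of the values -/
def zl : ℕ → ℕ → List ℕ
  | 0, n => if Nat.beq n 0 then [1] else []
  | k + 1, n => (List.range (n / (k + 1) + 1)).flatMap fun m =>
      (zl k (n - (k + 1) * m)).map fun z => (k + 1) ^ m * m ! * z

/-- value, parity of the number of even parts, distinct odd parts -/
def al : ℕ → ℕ → List (ℕ × ℕ × Bool)
  | 0, n => if Nat.beq n 0 then [(1, 0, true)] else []
  | k + 1, n => (List.range (n / (k + 1) + 1)).flatMap fun m =>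
      (al k (n - (k + 1) * m)).map fun z => ((k + 1) ^ m * m ! * z.1, ((k * m) + z.2.1) % 2,
        (Nat.beq m 0 || (Nat.beq m 1 && Nat.beq (k % 2) 0)) && z.2.2)

/-- the number of transpositions -/
def par (s : Multiset ℕ) : ℕ := (s.map fun i => i - 1).sum % 2

/-- all parts odd and distinct -/
def DO (s : Multiset ℕ) : Prop := (∀ i ∈ s, i % 2 = 1) ∧ ∀ i, s.count i ≤ 1

theorem zval_add (k m : ℕ) (s : Multiset ℕ) (hs : k ∉ s) :
    zval (Multiset.replicate m k + s) = k ^ m * m ! * zval s := by
  classical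
  unfold zval
  rw [Multiset.prod_add, Multiset.prod_replicate]
  rcases Nat.eq_zero_or_pos m with h | h
  · subst h
    simp
  · have h1 : (Multiset.replicate m k + s).toFinset = insert k s.toFinset := by
      ext i
      rw [Multiset.toFinset_add, Finset.mem_union, Finset.mem_insert, Multiset.mem_toFinset, Multiset.mem_replicate]
      constructor
      · rintro (⟨-, h2⟩ | h2)
        · exact Or.inl h2
        · exact Or.inr h2
      · rintro (h2 | h2)
        · exact Or.inl ⟨by omega, h2⟩
        · exact Or.inr h2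
    rw [h1, Finset.prod_insert (by rwa [Multiset.mem_toFinset])]
    have h2 : (Multiset.replicate m k + s).count k = m := by
      rw [Multiset.count_add, Multiset.count_replicate_self, Multiset.count_eq_zero_of_notMem hs]
      rfl
    have h3 : ∏ x ∈ s.toFinset, ((Multiset.replicate m k + s).count x)! = ∏ x ∈ s.toFinset, (s.count x)! := by
      apply Finset.prod_congr rfl
      intro x hx
      rw [Multiset.mem_toFinset] at hx
      rw [Multiset.count_add, Multiset.count_replicate, if_neg (by rintro rfl; exact hs hx), Nat.zero_add]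
    rw [h2, h3]
    ring

/-- splitting off the parts equal to `k + 1` -/
theorem exists_decomp (k : ℕ) (s : Multiset ℕ) (hs : ∀ i ∈ s, 1 ≤ i ∧ i ≤ k + 1) :
    ∃ (m : ℕ) (t : Multiset ℕ), s = Multiset.replicate m (k + 1) + t ∧ (∀ i ∈ t, 1 ≤ i ∧ i ≤ k) := by
  classical
  refine ⟨s.count (k + 1), s.filter (fun i => ¬ i = k + 1), ?_, ?_⟩
  · have h1 := Multiset.filter_add_not (fun i => i = k + 1) s
    rw [Multiset.filter_eq'] at h1
    exact h1.symm
  · intro i hi
    rw [Multiset.mem_filter] at hi
    have := hs i hi.1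
    omega

theorem zl_complete : ∀ (k n : ℕ) (s : Multiset ℕ), (∀ i ∈ s, 1 ≤ i ∧ i ≤ k) → s.sum = n → zval s ∈ zl k n := by
  intro k
  induction k with
  | zero =>
    intro n s hs hn
    have h0 : s = 0 := by
      rw [Multiset.eq_zero_iff_forall_notMem]
      intro i hi
      have := hs i hi
      omega
    subst h0
    rw [Multiset.sum_zero] at hn
    subst hn
    simp [zl, zval]
  | succ k ih =>
    intro n s hs hn
    obtain ⟨m, t, rfl, ht⟩ := exists_decomp k s hs
    have hk : k + 1 ∉ t := fun h => by have := ht _ h; omega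
    rw [Multiset.sum_add, Multiset.sum_replicate, smul_eq_mul] at hn
    rw [zval_add _ _ _ hk]
    unfold zl
    rw [List.mem_flatMap]
    refine ⟨m, ?_, ?_⟩
    · rw [List.mem_range, Nat.lt_succ_iff, Nat.le_div_iff_mul_le (by omega)]
      omega
    · rw [List.mem_map]
      refine ⟨zval t, ih _ t ht ?_, rfl⟩
      rw [mul_comm (k + 1) m]
      omega

theorem zl_sound : ∀ (k n z : ℕ), z ∈ zl k n →
    ∃ s : Multiset ℕ, (∀ i ∈ s, 1 ≤ i ∧ i ≤ k) ∧ s.sum = n ∧ zval s = z := by
  intro k
  induction k with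
  | zero =>
    intro n z hz
    unfold zl at hz
    split_ifs at hz with h
    · rw [List.mem_singleton] at hz
      subst hz
      rw [Nat.beq_eq] at h
      subst h
      exact ⟨0, by simp, by simp, by simp [zval]⟩
    · exact absurd hz (List.not_mem_nil)
  | succ k ih =>
    intro n z hz
    unfold zl at hz
    rw [List.mem_flatMap] at hz
    obtain ⟨m, hm, hz⟩ := hz
    rw [List.mem_map] at hz
    obtain ⟨w, hw, rfl⟩ := hz
    rw [List.mem_range, Nat.lt_succ_iff, Nat.le_div_iff_mul_le (by omega)] at hm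
    obtain ⟨t, ht, hsum, hval⟩ := ih _ _ hw
    have hk : k + 1 ∉ t := fun h => by have := ht _ h; omega
    refine ⟨Multiset.replicate m (k + 1) + t, ?_, ?_, ?_⟩
    · intro i hi
      rw [Multiset.mem_add, Multiset.mem_replicate] at hi
      rcases hi with ⟨-, h⟩ | h
      · omega
      · have := ht i h
        omega
    · rw [Multiset.sum_add, Multiset.sum_replicate, smul_eq_mul, hsum]
      have : m * (k + 1) = (k + 1) * m := mul_comm _ _
      omega
    · rw [zval_add _ _ _ hk, hval]

theorem par_add (k m : ℕ) (t : Multiset ℕ) :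
    par (Multiset.replicate m (k + 1) + t) = ((k * m) + par t) % 2 := by
  unfold par
  rw [Multiset.map_add, Multiset.sum_add, Multiset.map_replicate, Multiset.sum_replicate, smul_eq_mul,
    Nat.add_sub_cancel, mul_comm m k]
  omega

theorem do_add (k m : ℕ) (t : Multiset ℕ) (hk : k + 1 ∉ t) : DO (Multiset.replicate m (k + 1) + t) ↔
    (m = 0 ∨ (m = 1 ∧ k % 2 = 0)) ∧ DO t := by
  classical
  unfold DO
  constructor
  · rintro ⟨h1, h2⟩
    have h3 := h2 (k + 1)
    rw [Multiset.count_add, Multiset.count_replicate_self, Multiset.count_eq_zero_of_notMem hk] at h3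
    refine ⟨?_, fun i hi => h1 i (Multiset.mem_add.2 (Or.inr hi)), fun i => ?_⟩
    · rcases Nat.eq_zero_or_pos m with h | h
      · exact Or.inl h
      · right
        have h4 := h1 (k + 1) (Multiset.mem_add.2 (Or.inl (Multiset.mem_replicate.2 ⟨by omega, rfl⟩)))
        omega
    · have h4 := h2 i
      rw [Multiset.count_add] at h4
      omega
  · rintro ⟨h1, h2, h3⟩
    constructor
    · intro i hi
      rw [Multiset.mem_add, Multiset.mem_replicate] at hi
      rcases hi with ⟨h4, h5⟩ | h4
      · omega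
      · exact h2 i h4
    · intro i
      rw [Multiset.count_add, Multiset.count_replicate]
      by_cases hi : k + 1 = i
      · subst hi
        rw [if_pos rfl, Multiset.count_eq_zero_of_notMem hk]
        omega
      · rw [if_neg hi, Nat.zero_add]
        exact h3 i

theorem al_complete : ∀ (k n : ℕ) (s : Multiset ℕ), (∀ i ∈ s, 1 ≤ i ∧ i ≤ k) → s.sum = n →
    ∃ b : Bool, (b = true ↔ DO s) ∧ (zval s, par s, b) ∈ al k n := by
  intro k
  induction k with
  | zero =>
    intro n s hs hn
    have h0 : s = 0 := by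
      rw [Multiset.eq_zero_iff_forall_notMem]
      intro i hi
      have := hs i hi
      omega
    subst h0
    rw [Multiset.sum_zero] at hn
    subst hn
    exact ⟨true, by simp [DO], by simp [al, zval, par]⟩
  | succ k ih =>
    intro n s hs hn
    obtain ⟨m, t, rfl, ht⟩ := exists_decomp k s hs
    have hk : k + 1 ∉ t := fun h => by have := ht _ h; omega
    rw [Multiset.sum_add, Multiset.sum_replicate, smul_eq_mul] at hn
    obtain ⟨b, hb, hmem⟩ := ih (n - (k + 1) * m) t ht (by rw [mul_comm (k + 1) m]; omega)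
    refine ⟨(Nat.beq m 0 || (Nat.beq m 1 && Nat.beq (k % 2) 0)) && b, ?_, ?_⟩
    · rw [do_add _ _ _ hk, Bool.and_eq_true, Bool.or_eq_true, Bool.and_eq_true, Nat.beq_eq, Nat.beq_eq,
        Nat.beq_eq, hb]
    · rw [zval_add _ _ _ hk, par_add]
      unfold al
      rw [List.mem_flatMap]
      refine ⟨m, ?_, ?_⟩
      · rw [List.mem_range, Nat.lt_succ_iff, Nat.le_div_iff_mul_le (by omega)]
        omega
      · rw [List.mem_map]
        exact ⟨_, hmem, rfl⟩

theorem al_sound : ∀ (k n : ℕ) (z : ℕ × ℕ × Bool), z ∈ al k n →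
    ∃ s : Multiset ℕ, (∀ i ∈ s, 1 ≤ i ∧ i ≤ k) ∧ s.sum = n ∧ zval s = z.1 ∧ par s = z.2.1 ∧
      (z.2.2 = true ↔ DO s) := by
  intro k
  induction k with
  | zero =>
    intro n z hz
    unfold al at hz
    split_ifs at hz with h
    · rw [List.mem_singleton] at hz
      subst hz
      rw [Nat.beq_eq] at h
      subst h
      exact ⟨0, by simp, by simp, by simp [zval], by simp [par], by simp [DO]⟩
    · exact absurd hz (List.not_mem_nil)
  | succ k ih =>
    intro n z hz
    unfold al at hz
    rw [List.mem_flatMap] at hz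
    obtain ⟨m, hm, hz⟩ := hz
    rw [List.mem_map] at hz
    obtain ⟨w, hw, rfl⟩ := hz
    rw [List.mem_range, Nat.lt_succ_iff, Nat.le_div_iff_mul_le (by omega)] at hm
    obtain ⟨t, ht, hsum, hval, hpar, hdo⟩ := ih _ _ hw
    have hk : k + 1 ∉ t := fun h => by have := ht _ h; omega
    refine ⟨Multiset.replicate m (k + 1) + t, ?_, ?_, ?_, ?_, ?_⟩
    · intro i hi
      rw [Multiset.mem_add, Multiset.mem_replicate] at hi
      rcases hi with ⟨-, h⟩ | h
      · omega
      · have := ht i h
        omega
    · rw [Multiset.sum_add, Multiset.sum_replicate, smul_eq_mul, hsum]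
      have : m * (k + 1) = (k + 1) * m := mul_comm _ _
      omega
    · rw [zval_add _ _ _ hk, hval]
    · rw [par_add, hpar]
    · rw [do_add _ _ _ hk, Bool.and_eq_true, Bool.or_eq_true, Bool.and_eq_true, Nat.beq_eq, Nat.beq_eq,
        Nat.beq_eq, hdo]

/-! ### the symmetric group -/

/-- the partition of a permutation, as a multiset -/
noncomputable def prt {n : ℕ} (σ : Equiv.Perm (Fin n)) : Multiset ℕ :=
  Multiset.replicate (n - σ.cycleType.sum) 1 + σ.cycleType

theorem sum_le {n : ℕ} (σ : Equiv.Perm (Fin n)) : σ.cycleType.sum ≤ n := by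
  have := σ.sum_cycleType
  rw [this]
  simpa using σ.support.card_le_univ

theorem prt_sum {n : ℕ} (σ : Equiv.Perm (Fin n)) : (prt σ).sum = n := by
  unfold prt
  rw [Multiset.sum_add, Multiset.sum_replicate, smul_eq_mul, mul_one]
  have := sum_le σ
  omega

theorem one_notMem {n : ℕ} (σ : Equiv.Perm (Fin n)) : 1 ∉ σ.cycleType := fun h => by
  have := Equiv.Perm.two_le_of_mem_cycleType h
  omega

theorem prt_mem {n : ℕ} (σ : Equiv.Perm (Fin n)) : ∀ i ∈ prt σ, 1 ≤ i ∧ i ≤ n := by
  intro i hi
  have h1 : i ≤ (prt σ).sum := Multiset.le_sum_of_mem hi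
  rw [prt_sum] at h1
  refine ⟨?_, h1⟩
  unfold prt at hi
  rw [Multiset.mem_add, Multiset.mem_replicate] at hi
  rcases hi with ⟨-, h⟩ | h
  · omega
  · have := Equiv.Perm.two_le_of_mem_cycleType h
    omega

theorem card_centralizer {n : ℕ} (σ : Equiv.Perm (Fin n)) :
    Nat.card (Subgroup.centralizer ({σ} : Set (Equiv.Perm (Fin n)))) = zval (prt σ) := by
  classical
  rw [Equiv.Perm.nat_card_centralizer σ, Fintype.card_fin]
  unfold prt
  rw [zval_add _ _ _ (one_notMem σ), one_pow, one_mul]
  unfold zval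
  rw [mul_assoc]

theorem sym_mem {n : ℕ} (σ : Equiv.Perm (Fin n)) :
    Nat.card (Subgroup.centralizer ({σ} : Set (Equiv.Perm (Fin n)))) ∈ zl n n := by
  rw [card_centralizer]
  exact zl_complete n n _ (prt_mem σ) (prt_sum σ)

theorem exists_perm {n : ℕ} {s : Multiset ℕ} (hs : ∀ i ∈ s, 1 ≤ i) (hsum : s.sum = n) :
    ∃ σ : Equiv.Perm (Fin n), prt σ = s := by
  classical
  obtain ⟨t, ht⟩ : ∃ t : Multiset ℕ, s = Multiset.replicate (s.count 1) 1 + t ∧ ∀ i ∈ t, 2 ≤ i := by
    refine ⟨s.filter (fun i => ¬ i = 1), ?_, ?_⟩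
    · have h1 := Multiset.filter_add_not (fun i => i = 1) s
      rw [Multiset.filter_eq'] at h1
      exact h1.symm
    · intro i hi
      rw [Multiset.mem_filter] at hi
      have := hs i hi.1
      omega
  have h1 : s.sum = s.count 1 + t.sum := by
    conv_lhs => rw [ht.1]
    rw [Multiset.sum_add, Multiset.sum_replicate, smul_eq_mul, mul_one]
  obtain ⟨σ, hσ⟩ := (Equiv.Perm.exists_with_cycleType_iff (α := Fin n) (m := t)).2
    ⟨by rw [Fintype.card_fin]; omega, fun a ha => ht.2 a ha⟩
  refine ⟨σ, ?_⟩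
  unfold prt
  rw [hσ]
  conv_rhs => rw [ht.1]
  congr 2
  omega

theorem sym_exists {n z : ℕ} (hz : z ∈ zl n n) : ∃ σ : Equiv.Perm (Fin n),
    Nat.card (Subgroup.centralizer ({σ} : Set (Equiv.Perm (Fin n)))) = z := by
  obtain ⟨s, hs, hsum, hval⟩ := zl_sound n n z hz
  obtain ⟨σ, hσ⟩ := exists_perm (fun i hi => (hs i hi).1) hsum
  exact ⟨σ, by rw [card_centralizer, hσ, hval]⟩

/-! ### the alternating group -/

theorem sum_sub_one (s : Multiset ℕ) (hs : ∀ i ∈ s, 1 ≤ i) :
    (s.map fun i => i - 1).sum + Multiset.card s = s.sum := by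
  induction s using Multiset.induction_on with
  | empty => simp
  | cons a s ih =>
    have h1 := hs a (Multiset.mem_cons_self a s)
    have h2 := ih fun i hi => hs i (Multiset.mem_cons_of_mem hi)
    rw [Multiset.map_cons, Multiset.sum_cons, Multiset.sum_cons, Multiset.card_cons]
    omega

theorem neg_one_pow_mod (m : ℕ) : (-1 : ℤˣ) ^ (m % 2) = (-1) ^ m := by
  conv_rhs => rw [← Nat.mod_add_div m 2, pow_add, pow_mul]
  simp

theorem sign_eq {n : ℕ} (σ : Equiv.Perm (Fin n)) : Equiv.Perm.sign σ = (-1) ^ par (prt σ) := by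
  have h1 : (σ.cycleType.map fun i => i - 1).sum + Multiset.card σ.cycleType = σ.cycleType.sum :=
    sum_sub_one _ fun i hi => by have := Equiv.Perm.two_le_of_mem_cycleType hi; omega
  rw [Equiv.Perm.sign_of_cycleType]
  unfold par prt
  rw [Multiset.map_add, Multiset.sum_add, Multiset.map_replicate, Multiset.sum_replicate, smul_eq_mul,
    Nat.sub_self, Nat.mul_zero, Nat.zero_add, neg_one_pow_mod, ← h1]
  rw [show (Multiset.map (fun i => i - 1) σ.cycleType).sum + Multiset.card σ.cycleType +
    Multiset.card σ.cycleType = (Multiset.map (fun i => i - 1) σ.cycleType).sum + 2 * Multiset.card σ.cycleType by ring,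
    pow_add, pow_mul, neg_one_sq, one_pow, mul_one]

theorem mem_alt_iff {n : ℕ} (σ : Equiv.Perm (Fin n)) : σ ∈ alternatingGroup (Fin n) ↔ par (prt σ) = 0 := by
  rw [Equiv.Perm.mem_alternatingGroup, sign_eq]
  have h : par (prt σ) < 2 := Nat.mod_lt _ (by norm_num)
  interval_cases par (prt σ)
  · simp
  · simp only [pow_one, one_ne_zero, iff_false]
    decide

theorem le_alt_iff {n : ℕ} (σ : Equiv.Perm (Fin n)) :
    Subgroup.centralizer ({σ} : Set (Equiv.Perm (Fin n))) ≤ alternatingGroup (Fin n) ↔ DO (prt σ) := by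
  classical
  rw [Equiv.Perm.centralizer_le_alternating_iff, Fintype.card_fin]
  unfold DO prt
  constructor
  · rintro ⟨h1, h2, h3⟩
    constructor
    · intro i hi
      rw [Multiset.mem_add, Multiset.mem_replicate] at hi
      rcases hi with ⟨-, h⟩ | h
      · omega
      · exact Nat.odd_iff.1 (h1 i h)
    · intro i
      rw [Multiset.count_add, Multiset.count_replicate]
      by_cases hi : 1 = i
      · subst hi
        rw [if_pos rfl, Multiset.count_eq_zero_of_notMem (one_notMem σ)]
        omega
      · rw [if_neg hi, Nat.zero_add]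
        exact h3 i
  · rintro ⟨h1, h2⟩
    refine ⟨fun c hc => Nat.odd_iff.2 (h1 c (Multiset.mem_add.2 (Or.inr hc))), ?_, fun i => ?_⟩
    · have h3 := h2 1
      rw [Multiset.count_add, Multiset.count_replicate_self, Multiset.count_eq_zero_of_notMem (one_notMem σ)] at h3
      omega
    · have h3 := h2 i
      rw [Multiset.count_add] at h3
      omega

/-- the centralizer in the alternating group -/
theorem card_alt {n : ℕ} (σ : alternatingGroup (Fin n)) :
    (DO (prt (σ : Equiv.Perm (Fin n))) →
      Nat.card (Subgroup.centralizer ({σ} : Set (alternatingGroup (Fin n)))) = zval (prt (σ : Equiv.Perm (Fin n)))) ∧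
    (¬ DO (prt (σ : Equiv.Perm (Fin n))) →
      2 * Nat.card (Subgroup.centralizer ({σ} : Set (alternatingGroup (Fin n)))) =
        zval (prt (σ : Equiv.Perm (Fin n)))) := by
  classical
  set C := Subgroup.centralizer ({(σ : Equiv.Perm (Fin n))} : Set (Equiv.Perm (Fin n))) with hC
  -- the kernel of the sign on `C`
  let f : C →* ℤˣ := Equiv.Perm.sign.comp C.subtype
  have hker : Nat.card f.ker = Nat.card (Subgroup.centralizer ({σ} : Set (alternatingGroup (Fin n)))) := by
    apply Nat.card_congr
    refine ⟨fun x => ⟨⟨x.1.1, ?_⟩, ?_⟩, fun y => ⟨⟨y.1.1, ?_⟩, ?_⟩, fun x => rfl, fun y => rfl⟩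
    · have := x.2
      rw [MonoidHom.mem_ker] at this
      exact Equiv.Perm.mem_alternatingGroup.2 this
    · rw [Subgroup.mem_centralizer_singleton_iff]
      exact Subtype.ext (Subgroup.mem_centralizer_singleton_iff.1 x.1.2)
    · rw [Subgroup.mem_centralizer_singleton_iff]
      have := y.2
      rw [Subgroup.mem_centralizer_singleton_iff] at this
      exact congrArg Subtype.val this
    · rw [MonoidHom.mem_ker]
      exact Equiv.Perm.mem_alternatingGroup.1 y.1.2
  have hcard : Nat.card C = Nat.card f.ker * Nat.card f.range := by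
    rw [← Subgroup.card_mul_index f.ker, Subgroup.index_ker]
  rw [← card_centralizer, ← hC, hcard, ← hker]
  constructor
  · intro hdo
    rw [← le_alt_iff] at hdo
    have h1 : f.range = ⊥ := by
      rw [eq_bot_iff]
      rintro _ ⟨x, rfl⟩
      rw [Subgroup.mem_bot]
      exact Equiv.Perm.mem_alternatingGroup.1 (hdo x.2)
    rw [h1, Subgroup.card_bot, mul_one]
  · intro hdo
    rw [← le_alt_iff] at hdo
    have h1 : f.range ≠ ⊥ := by
      intro h
      apply hdo
      intro x hx
      have h2 : f ⟨x, hx⟩ ∈ f.range := ⟨_, rfl⟩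
      rw [h, Subgroup.mem_bot] at h2
      exact Equiv.Perm.mem_alternatingGroup.2 h2
    have h2 : Nat.card f.range ∣ 2 := by
      have := Subgroup.card_subgroup_dvd_card f.range
      have h3 : Nat.card ℤˣ = 2 := by
        rw [Nat.card_eq_fintype_card]
        rfl
      rwa [h3] at this
    have h3 : Nat.card f.range ≠ 1 := by
      intro h
      exact h1 (Subgroup.card_eq_one.1 h)
    rcases (Nat.dvd_prime Nat.prime_two).1 h2 with h | h
    · exact absurd h h3
    · rw [h, mul_comm]

/-- the list of the centralizer orders of the alternating group -/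
def altl (n : ℕ) : List ℕ :=
  ((al n n).filter fun z => Nat.beq z.2.1 0).map fun z => if z.2.2 then z.1 else z.1 / 2

theorem alt_mem {n : ℕ} (σ : alternatingGroup (Fin n)) :
    Nat.card (Subgroup.centralizer ({σ} : Set (alternatingGroup (Fin n)))) ∈ altl n := by
  obtain ⟨b, hb, hmem⟩ := al_complete n n (prt (σ : Equiv.Perm (Fin n))) (prt_mem _) (prt_sum _)
  unfold altl
  rw [List.mem_map]
  refine ⟨_, List.mem_filter.2 ⟨hmem, ?_⟩, ?_⟩
  · rw [Nat.beq_eq]
    exact (mem_alt_iff _).1 σ.2
  · obtain ⟨h1, h2⟩ := card_alt σ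
    by_cases h : DO (prt (σ : Equiv.Perm (Fin n)))
    · rw [if_pos (hb.2 h), h1 h]
    · rw [if_neg (fun h' => h (hb.1 h')), ← h2 h]
      omega

theorem alt_exists {n z : ℕ} (hz : z ∈ altl n) : ∃ σ : alternatingGroup (Fin n),
    Nat.card (Subgroup.centralizer ({σ} : Set (alternatingGroup (Fin n)))) = z := by
  unfold altl at hz
  rw [List.mem_map] at hz
  obtain ⟨w, hw, rfl⟩ := hz
  rw [List.mem_filter, Nat.beq_eq] at hw
  obtain ⟨s, hs, hsum, hval, hpar, hdo⟩ := al_sound n n w hw.1
  obtain ⟨σ, hσ⟩ := exists_perm (fun i hi => (hs i hi).1) hsum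
  refine ⟨⟨σ, ?_⟩, ?_⟩
  · rw [mem_alt_iff, hσ, hpar, hw.2]
  · obtain ⟨h1, h2⟩ := card_alt (⟨σ, by rw [mem_alt_iff, hσ, hpar, hw.2]⟩ : alternatingGroup (Fin n))
    simp only [hσ] at h1 h2
    by_cases h : DO s
    · rw [if_pos (hdo.2 h), h1 h, hval]
    · rw [if_neg (fun h' => h (hdo.1 h')), ← hval, ← h2 h]
      omega

end Cfsg.Agent.H367.ClsList
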