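import Mathlib
import Cfsg.Agent.SmallSimple.SelfCentPrime
import Cfsg.Agent.H367.ClsList

/-!
# Groups with a given set of centralizer orders (helper367)
-/

set_option autoImplicit false

namespace Cfsg.Agent.H367.ClsGrp

open Subgroup

/-- the order of the centralizer -/
noncomputable def co {G : Type*} [Group G] (g : G) : ℕ := Nat.card (centralizer ({g} : Set G))

/-- the set of the centralizer orders is the set of the members of `L` -/
structure CSet (G : Type*) [Group G] (L : List ℕ) : Prop where
  mem : ∀ g : G, co g ∈ L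
  ex : ∀ c ∈ L, ∃ g : G, co g = c

theorem CSet.of_range {G H : Type*} [Group G] [Group H] [Finite G] [Finite H] {L : List ℕ} (h : CSet H L)
    (hcard : Nat.card G = Nat.card H)
    (hcs : Set.range (fun g : G => (centralizer ({g} : Set G)).index) =
      Set.range (fun g : H => (centralizer ({g} : Set H)).index)) : CSet G L := by
  have key : ∀ (g : G) (k : H), (centralizer ({g} : Set G)).index = (centralizer ({k} : Set H)).index →
      co g = co k := by
    intro g k hgk
    have h1 := (centralizer ({g} : Set G)).card_mul_index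
    have h2 := (centralizer ({k} : Set H)).card_mul_index
    rw [hgk, hcard, ← h2] at h1
    exact Nat.eq_of_mul_eq_mul_right (Nat.pos_of_ne_zero index_ne_zero_of_finite) h1
  constructor
  · intro g
    have : (fun g : G => (centralizer ({g} : Set G)).index) g ∈
        Set.range (fun g : H => (centralizer ({g} : Set H)).index) := by
      rw [← hcs]
      exact ⟨g, rfl⟩
    obtain ⟨k, hk⟩ := this
    rw [key g k hk.symm]
    exact h.mem k
  · intro c hc
    obtain ⟨k, hk⟩ := h.ex c hc
    have : (fun g : H => (centralizer ({g} : Set H)).index) k ∈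
        Set.range (fun g : G => (centralizer ({g} : Set G)).index) := by
      rw [hcs]
      exact ⟨k, rfl⟩
    obtain ⟨g, hg⟩ := this
    exact ⟨g, by rw [key g k hg, hk]⟩

theorem cset_sym (n : ℕ) : CSet (Equiv.Perm (Fin n)) (ClsList.zl n n) :=
  ⟨fun σ => ClsList.sym_mem σ, fun _ hc => ClsList.sym_exists hc⟩

theorem cset_alt (n : ℕ) : CSet (alternatingGroup (Fin n)) (ClsList.altl n) :=
  ⟨fun σ => ClsList.alt_mem σ, fun _ hc => ClsList.alt_exists hc⟩

section

variable {G : Type*} [Group G]

theorem mem_cent {g h : G} : h ∈ centralizer ({g} : Set G) ↔ h * g = g * h := mem_centralizer_singleton_iff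

theorem center_dvd (g : G) : Nat.card (center G) ∣ co g :=
  Subgroup.card_dvd_of_le (center_le_centralizer _)

theorem co_conj (g u : G) : co (u * g * u⁻¹) = co g := by
  apply Nat.card_congr
  refine ⟨fun x => ⟨u⁻¹ * x.1 * u, ?_⟩, fun x => ⟨u * x.1 * u⁻¹, ?_⟩, fun x => ?_, fun x => ?_⟩
  · have := mem_cent.1 x.2
    rw [mem_cent]
    calc u⁻¹ * x.1 * u * g = u⁻¹ * (x.1 * (u * g * u⁻¹)) * u := by group
      _ = u⁻¹ * ((u * g * u⁻¹) * x.1) * u := by rw [this]
      _ = g * (u⁻¹ * x.1 * u) := by group
  · have := mem_cent.1 x.2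
    rw [mem_cent]
    calc u * x.1 * u⁻¹ * (u * g * u⁻¹) = u * (x.1 * g) * u⁻¹ := by group
      _ = u * (g * x.1) * u⁻¹ := by rw [this]
      _ = u * g * u⁻¹ * (u * x.1 * u⁻¹) := by group
  · apply Subtype.ext
    change u * (u⁻¹ * x.1 * u) * u⁻¹ = x.1
    group
  · apply Subtype.ext
    change u⁻¹ * (u * x.1 * u⁻¹) * u = x.1
    group

variable [Finite G]

/-- **The class equation**: if the order of the centralizer of every noncentral element divides `D ∣ |G|`, then
`|G|` divides `D |Z(G)|`. -/
theorem card_dvd_of_cent {D : ℕ} (hD : D ∣ Nat.card G)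
    (h : ∀ g : G, g ∉ center G → Nat.card (centralizer ({g} : Set G)) ∣ D) :
    Nat.card G ∣ D * Nat.card (center G) := by
  obtain ⟨m, hm⟩ := hD
  have hD0 : D ≠ 0 := by
    rintro rfl
    rw [Nat.zero_mul] at hm
    exact Nat.card_pos.ne' hm
  -- `m` divides every noncentral class
  have h1 : ∀ x ∈ ConjClasses.noncenter G, m ∣ Nat.card x.carrier := by
    intro x hx
    obtain ⟨g, rfl⟩ := ConjClasses.exists_rep x
    have hg : g ∉ center G := by
      intro hg
      rw [ConjClasses.mem_noncenter] at hx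
      obtain ⟨a, ha, b, hb, hab⟩ := hx
      apply hab
      have key : ∀ c ∈ (ConjClasses.mk g).carrier, c = g := by
        intro c hc
        rw [ConjClasses.mem_carrier_iff_mk_eq, ConjClasses.mk_eq_mk_iff_isConj] at hc
        obtain ⟨u, hu⟩ := isConj_iff.1 hc.symm
        rw [← hu, mem_center_iff.1 hg u, mul_assoc, mul_inv_cancel, mul_one]
      rw [key a ha, key b hb]
    have h2 := SmallSimple.SelfCentPrime.card_carrier_mul_card_centralizer g
    obtain ⟨k, hk⟩ := h g hg
    rw [hm, hk] at h2
    have hc0 : Nat.card (centralizer ({g} : Set G)) ≠ 0 := Nat.card_pos.ne'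
    refine ⟨k, ?_⟩
    apply Nat.eq_of_mul_eq_mul_right (Nat.pos_of_ne_zero hc0)
    rw [h2]
    ring
  have h2 := Group.nat_card_center_add_sum_card_noncenter_eq_card G
  have h3 : m ∣ ∑ᶠ x ∈ ConjClasses.noncenter G, Nat.card x.carrier := by
    rw [finsum_mem_eq_finite_toFinset_sum _ (Set.toFinite _)]
    apply Finset.dvd_sum
    intro x hx
    exact h1 x ((Set.Finite.mem_toFinset _).1 hx)
  have h4 : m ∣ Nat.card (center G) := by
    have h5 : m ∣ Nat.card G := ⟨D, by rw [hm, mul_comm]⟩
    rw [← h2] at h5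
    exact (Nat.dvd_add_left h3).1 h5
  rw [hm]
  exact Nat.mul_dvd_mul_left D h4

end

section

variable {G : Type*} [Group G] [Finite G] {p : ℕ} [hp : Fact p.Prime]

omit [Finite G] in
/-- in a group of order not divisible by `p ^ 2`, commuting elements of order `p` generate the same subgroup -/
theorem mem_zpowers_of_commute (hp2 : ¬ p ^ 2 ∣ Nat.card G) {x y : G} (hx : orderOf x = p) (hy : orderOf y = p)
    (hxy : x * y = y * x) : y ∈ zpowers x := by
  by_contra hne
  apply hp2
  -- the product map is injective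
  let f : zpowers x × zpowers y →* G :=
    (zpowers x).subtype.noncommCoprod (zpowers y).subtype (by
      rintro ⟨a, ha⟩ ⟨b, hb⟩
      obtain ⟨i, rfl⟩ := mem_zpowers_iff.1 ha
      obtain ⟨j, rfl⟩ := mem_zpowers_iff.1 hb
      exact (Commute.zpow_zpow (show Commute x y from hxy) i j))
  have hinj : Function.Injective f := by
    rw [injective_iff_map_eq_one]
    rintro ⟨⟨a, ha⟩, ⟨b, hb⟩⟩ hab
    have hab' : a * b = 1 := hab
    have hb1 : b = 1 := by
      by_contra hb1
      have hbx : b ∈ zpowers x := by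
        rw [eq_inv_of_mul_eq_one_right hab']
        exact inv_mem ha
      have h1 := SmallSimple.SelfCentPrime.zpowers_eq_of_mem hx hbx hb1
      have h2 := SmallSimple.SelfCentPrime.zpowers_eq_of_mem hy hb hb1
      apply hne
      rw [← h1, h2]
      exact mem_zpowers y
    subst hb1
    have ha1 : a = 1 := by simpa using hab'
    subst ha1
    rfl
  have h1 := Subgroup.card_dvd_of_injective f hinj
  rwa [Nat.card_prod, Nat.card_zpowers, Nat.card_zpowers, hx, hy, ← pow_two] at h1

/-- a conjugate of `y` of order `p` generates the group of `x` -/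
theorem exists_conj (hp2 : ¬ p ^ 2 ∣ Nat.card G) {x y : G} (hx : orderOf x = p) (hy : orderOf y = p) :
    ∃ u : G, x ∈ zpowers (u * y * u⁻¹) := by
  have hcard : ∀ z : G, orderOf z = p → (Nat.card G).factorization p = 1 := by
    intro z hz
    have h1 : p ∣ Nat.card G := hz ▸ orderOf_dvd_natCard z
    have h2 : 1 ≤ (Nat.card G).factorization p := (hp.out.dvd_iff_one_le_factorization Nat.card_pos.ne').1 h1
    have h3 : ¬ 2 ≤ (Nat.card G).factorization p := fun h =>
      hp2 ((hp.out.pow_dvd_iff_le_factorization Nat.card_pos.ne').2 h)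
    omega
  have h1 := hcard x hx
  let P : Sylow p G := Sylow.ofCard (zpowers x) (by rw [Nat.card_zpowers, hx, h1, pow_one])
  let Q : Sylow p G := Sylow.ofCard (zpowers y) (by rw [Nat.card_zpowers, hy, h1, pow_one])
  obtain ⟨u, hu⟩ := MulAction.exists_smul_eq G Q P
  refine ⟨u, ?_⟩
  have hxP : x ∈ (P : Subgroup G) := by
    change x ∈ zpowers x
    exact mem_zpowers x
  rw [← hu] at hxP
  rw [Sylow.coe_subgroup_smul] at hxP
  obtain ⟨z, hz, hzx⟩ := hxP
  have hz' : z ∈ zpowers y := hz
  obtain ⟨i, rfl⟩ := mem_zpowers_iff.1 hz'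
  rw [mem_zpowers_iff]
  refine ⟨i, ?_⟩
  rw [← hzx]
  change (u * y * u⁻¹) ^ i = u * y ^ i * u⁻¹
  rw [conj_zpow]

/-- the elements of the centralizer `C` of an element `x` of order `p` -/
theorem exists_gen (hp2 : ¬ p ^ 2 ∣ Nat.card G) {x : G} (hx : orderOf x = p) (k : G) (hk : k * x = x * k) :
    ∃ j : G, (∀ c : G, c * j = j * c ↔ (c * x = x * c ∧ c * k = k * c)) := by
  -- `j = k` or `j = k * x`
  by_cases hpk : p ∣ orderOf k
  · -- `x` is a power of `k`
    have h0 : orderOf k ≠ 0 := (orderOf_pos k).ne'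
    obtain ⟨m, hm⟩ := hpk
    have hm0 : m ≠ 0 := by
      rintro rfl
      rw [mul_zero] at hm
      exact h0 hm
    have hkm : orderOf (k ^ m) = p := by
      rw [orderOf_pow_of_dvd hm0 ⟨p, by rw [hm, mul_comm]⟩, hm]
      exact Nat.mul_div_cancel p (Nat.pos_of_ne_zero hm0)
    have hc : k ^ m * x = x * k ^ m := (show Commute k x from hk).pow_left m
    have h1 := mem_zpowers_of_commute hp2 hkm hx hc
    obtain ⟨i, hi⟩ := mem_zpowers_iff.1 h1
    refine ⟨k, fun c => ⟨fun h => ⟨?_, h⟩, fun h => h.2⟩⟩
    rw [← hi]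
    exact ((show Commute c k from h).pow_right m).zpow_right i
  · -- coprime orders
    have hcop : Nat.Coprime (orderOf k) (orderOf x) := by
      rw [hx]
      exact ((Nat.Prime.coprime_iff_not_dvd hp.out).2 hpk).symm
    refine ⟨k * x, fun c => ⟨fun h => ?_, fun h => ?_⟩⟩
    · -- powers of `k * x`
      have hkx : Commute k x := hk
      have h1 : (k * x) ^ orderOf k = x ^ orderOf k := by
        rw [hkx.mul_pow, pow_orderOf_eq_one, one_mul]
      have h2 : Commute c (x ^ orderOf k) := by
        rw [← h1]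
        exact (show Commute c (k * x) from h).pow_right _
      obtain ⟨i, hi⟩ := Nat.exists_mul_mod_eq_one_of_coprime hcop (by rw [hx]; exact hp.out.one_lt)
      have h3 : Commute c x := by
        have h4 : (x ^ orderOf k) ^ i = x := by
          rw [← pow_mul, ← pow_mod_orderOf, hi.2, pow_one]
        rw [← h4]
        exact h2.pow_right i
      refine ⟨h3, ?_⟩
      have h5 : Commute c (k * x * x⁻¹) := (show Commute c (k * x) from h).mul_right h3.inv_right
      rwa [mul_inv_cancel_right] at h5
    · exact (show Commute c k from h.2).mul_right (show Commute c x from h.1)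

/-- **The type lemma.** -/
theorem type_lemma {L : List ℕ} (h : CSet G L) (hp2 : ¬ p ^ 2 ∣ Nat.card G) {x : G} (hx : orderOf x = p) {D g0 : ℕ}
    (hDc : D ∣ co x) (hD : ∀ c ∈ L, p ∣ c → c ∣ co x → c ≠ co x → c ∣ D)
    (hg0 : ∀ z, (∀ c ∈ L, p ∣ c → z ∣ c) → z ∣ g0) : co x ∣ D * g0 := by
  -- the centralizer orders in `C`
  have fact1 : ∀ k : centralizer ({x} : Set G), ∃ j : G,
      Nat.card (centralizer ({k} : Set (centralizer ({x} : Set G)))) = co j ∧ p ∣ co j ∧ co j ∣ co x := by
    intro k
    obtain ⟨j, hj⟩ := exists_gen hp2 hx (k : G) (mem_cent.1 k.2)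
    have hle : centralizer ({j} : Set G) ≤ centralizer ({x} : Set G) := fun c hc =>
      mem_cent.2 ((hj c).1 (mem_cent.1 hc)).1
    refine ⟨j, ?_, ?_, Subgroup.card_dvd_of_le hle⟩
    · apply Nat.card_congr
      refine ⟨fun c => ⟨c.1.1, ?_⟩, fun c => ⟨⟨c.1, hle c.2⟩, ?_⟩, fun c => rfl, fun c => rfl⟩
      · rw [mem_cent, hj]
        exact ⟨mem_cent.1 c.1.2, congrArg Subtype.val (mem_cent.1 c.2)⟩
      · rw [mem_cent]
        exact Subtype.ext ((hj c.1).1 (mem_cent.1 c.2)).2
    · have h1 : x ∈ centralizer ({j} : Set G) := by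
        rw [mem_cent, hj]
        exact ⟨rfl, (mem_cent.1 k.2).symm⟩
      have h2 : orderOf (⟨x, h1⟩ : centralizer ({j} : Set G)) = p := by
        rw [← Subgroup.orderOf_coe]
        exact hx
      rw [← h2]
      exact orderOf_dvd_natCard _
  -- elements of `C` with small centralizers
  have fact2 : ∀ c ∈ L, p ∣ c → ∃ k : centralizer ({x} : Set G),
      Nat.card (centralizer ({k} : Set (centralizer ({x} : Set G)))) ∣ c := by
    intro c hc hpc
    obtain ⟨g, hg⟩ := h.ex c hc
    rw [← hg] at hpc
    obtain ⟨y, hy⟩ := exists_prime_orderOf_dvd_card' p hpc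
    have hy' : orderOf (y : G) = p := by rw [Subgroup.orderOf_coe, hy]
    obtain ⟨u, hu⟩ := exists_conj hp2 hx hy'
    have hyg := mem_cent.1 y.2
    have hk : u * g * u⁻¹ ∈ centralizer ({x} : Set G) := by
      rw [mem_cent]
      obtain ⟨i, hi⟩ := mem_zpowers_iff.1 hu
      rw [← hi]
      have : Commute (u * g * u⁻¹) (u * (y : G) * u⁻¹) := by
        change u * g * u⁻¹ * (u * (y : G) * u⁻¹) = u * (y : G) * u⁻¹ * (u * g * u⁻¹)
        calc u * g * u⁻¹ * (u * (y : G) * u⁻¹) = u * (g * (y : G)) * u⁻¹ := by group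
          _ = u * ((y : G) * g) * u⁻¹ := by rw [hyg]
          _ = u * (y : G) * u⁻¹ * (u * g * u⁻¹) := by group
      exact this.zpow_right i
    refine ⟨⟨_, hk⟩, ?_⟩
    rw [← hg, ← co_conj g u]
    apply Subgroup.card_dvd_of_injective
      (((centralizer ({x} : Set G)).subtype.comp (centralizer
        ({(⟨_, hk⟩ : centralizer ({x} : Set G))} : Set (centralizer ({x} : Set G)))).subtype).codRestrict
          (centralizer ({u * g * u⁻¹} : Set G)) ?_)
    · intro a b hab
      have e : (a.1.1 : G) = b.1.1 := congrArg (fun z : centralizer ({u * g * u⁻¹} : Set G) => (z : G)) hab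
      exact Subtype.ext (Subtype.ext e)
    · intro a
      rw [mem_cent]
      exact congrArg Subtype.val (mem_cent.1 a.2)
  have h1 : Nat.card (centralizer ({x} : Set G)) ∣ D * Nat.card (center (centralizer ({x} : Set G))) := by
    apply card_dvd_of_cent hDc
    intro k hk
    obtain ⟨j, hj, hpj, hjx⟩ := fact1 k
    rw [hj]
    refine hD _ (h.mem j) hpj hjx ?_
    intro heq
    apply hk
    rw [← hj] at heq
    have h2 : centralizer ({k} : Set (centralizer ({x} : Set G))) = ⊤ :=
      Subgroup.eq_top_of_card_eq _ heq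
    rw [mem_center_iff]
    intro g
    have h3 : g ∈ centralizer ({k} : Set (centralizer ({x} : Set G))) := by rw [h2]; exact mem_top g
    exact (mem_cent.1 h3)
  have h2 : Nat.card (center (centralizer ({x} : Set G))) ∣ g0 := by
    apply hg0
    intro c hc hpc
    obtain ⟨k, hk⟩ := fact2 c hc hpc
    exact (center_dvd k).trans hk
  exact h1.trans (Nat.mul_dvd_mul_left D h2)

end

end Cfsg.Agent.H367.ClsGrp
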