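import Cfsg.Agent.H357.SmallFin
import Cfsg.Agent.H357.Tiny
import Cfsg.Agent.H367.ClsGrp

/-!
# From the simple section to the group (helper367)
-/

set_option autoImplicit false

namespace Cfsg.Agent.H367.ClsFin

open Cfsg Cfsg.Agent.OrdDiv Cfsg.Agent.H357.Reduce Cfsg.Agent.H363.Frat Cfsg.Agent.H363.AltPrimes
open Cfsg.Agent.H367.ClsGrp Subgroup

section

variable {G : Type*} [Group G] [Finite G]

/-- a normal subgroup of order two is central -/
theorem le_center_of_two (N : Subgroup G) [N.Normal] (h2 : Nat.card N = 2) : N ≤ center G := by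
  intro z hz
  rw [mem_center_iff]
  intro g
  by_cases hz1 : z = 1
  · rw [hz1, mul_one, one_mul]
  · have h4 : g * z * g⁻¹ ∈ N := ‹N.Normal›.conj_mem z hz g
    have h5 : g * z * g⁻¹ ≠ 1 := by
      intro h6
      apply hz1
      have : z = g⁻¹ * (g * z * g⁻¹) * g := by group
      rw [this, h6]
      group
    have h6 : ∀ a ∈ N, a ≠ 1 → a = z := by
      intro a ha ha1
      by_contra hne
      have h7 : ({1, z, a} : Set G) ⊆ N := by
        rintro y (rfl | rfl | rfl)
        · exact one_mem N
        · exact hz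
        · exact ha
      have h8 := Set.ncard_le_ncard h7 (Set.toFinite _)
      rw [Set.ncard_eq_three.mpr ⟨1, z, a, Ne.symm hz1, Ne.symm ha1, Ne.symm hne, rfl⟩] at h8
      have h9 : (N : Set G).ncard = Nat.card N := (Nat.card_coe_set_eq _).symm
      omega
    have h7 := h6 _ h4 h5
    calc g * z = g * z * g⁻¹ * g := by group
      _ = z * g := by rw [h7]

theorem fin_eq {n : ℕ} {N : Subgroup G} [N.Normal] {M : Subgroup (G ⧸ N)} (hZ : center G = ⊥)
    (hcard : Nat.card G = n.factorial ∨ 2 * Nat.card G = n.factorial)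
    (e : M ≃* alternatingGroup (Fin n)) (hm : 2 * Nat.card M = n.factorial)
    (hΘ : Nat.card G = n.factorial → ∃ Θ : (G ⧸ N) →* Equiv.Perm (Fin n), Function.Injective Θ) :
    Nonempty (G ≃* Equiv.Perm (Fin n)) ∨ Nonempty (G ≃* alternatingGroup (Fin n)) := by
  have hcardG := card_eq N M
  have hMpos : 0 < Nat.card M := Nat.card_pos
  have hbot : Nat.card N = 1 → N = ⊥ := fun h1 => Subgroup.card_eq_one.mp h1
  rcases hcard with h1 | h1
  · left
    obtain ⟨Θ, hΘ⟩ := hΘ h1
    have h2 : Nat.card N * M.index = 2 := by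
      rw [hcardG, ← hm] at h1
      apply Nat.eq_of_mul_eq_mul_right hMpos
      rw [← h1]
      ring
    have hidx : M.index ∣ 2 := ⟨Nat.card N, by rw [← h2, mul_comm]⟩
    rcases (Nat.dvd_prime Nat.prime_two).1 hidx with h3 | h3
    · -- `|N| = 2`
      exfalso
      rw [h3, mul_one] at h2
      have h4 := le_center_of_two N h2
      rw [hZ, le_bot_iff] at h4
      rw [h4, Subgroup.card_bot] at h2
      omega
    · -- `|G / N : M| = 2`
      rw [h3] at h2
      have hN1 : Nat.card N = 1 := by omega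
      have hbij : Function.Bijective Θ := by
        rw [Nat.bijective_iff_injective_and_card]
        refine ⟨hΘ, ?_⟩
        rw [Nat.card_eq_fintype_card (α := Equiv.Perm (Fin n)), Fintype.card_perm, Fintype.card_fin,
          ← M.card_mul_index, h3, ← hm, mul_comm]
      exact ⟨(equivOf N (hbot hN1)).trans (MulEquiv.ofBijective Θ hbij)⟩
  · right
    have h2 : Nat.card N * M.index = 1 := by
      rw [hcardG, ← hm] at h1
      have h3 := Nat.eq_of_mul_eq_mul_left (show 0 < 2 by norm_num) h1
      apply Nat.eq_of_mul_eq_mul_right hMpos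
      calc Nat.card N * M.index * Nat.card M = Nat.card N * (Nat.card M * M.index) := by ring
        _ = 1 * Nat.card M := by rw [h3, one_mul]
    have hN1 : Nat.card N = 1 := Nat.eq_one_of_mul_eq_one_right h2
    have hI1 : M.index = 1 := Nat.eq_one_of_mul_eq_one_left h2
    have htop : M = ⊤ := Subgroup.index_eq_one.mp hI1
    have hsub : Function.Bijective M.subtype := by
      refine ⟨M.subtype_injective, ?_⟩
      intro x
      exact ⟨⟨x, by rw [htop]; exact mem_top x⟩, rfl⟩
    exact ⟨(equivOf N (hbot hN1)).trans ((MulEquiv.ofBijective M.subtype hsub).symm.trans e)⟩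

/-- degree eight, section `A_7` -/
theorem false_seven {N : Subgroup G} [N.Normal] {M : Subgroup (G ⧸ N)} (D : Data G 8 N M)
    (hcard : Nat.card G = 40320 ∨ Nat.card G = 20160) (hco : ∀ x : G, orderOf x = 7 → co x = 7)
    (e : M ≃* alternatingGroup (Fin 7)) : False := by
  have hm : Nat.card M = 2520 := by
    have h1 := Cfsg.Agent.H363.AltPrimes.card_alternating (n := 7) (by norm_num)
    rw [← Nat.card_congr e.toEquiv, show Nat.factorial 7 = 5040 by rfl] at h1
    omega
  have hc := card_eq N M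
  rw [hm] at hc
  -- the index
  obtain ⟨Θ, hΘ⟩ := D.exists_hom (m := 7) le_rfl e
  have hK := Subgroup.card_dvd_of_injective Θ hΘ
  rw [Nat.card_eq_fintype_card (α := Equiv.Perm (Fin 7)), Fintype.card_perm, Fintype.card_fin,
    ← M.card_mul_index, hm, show Nat.factorial 7 = 2520 * 2 by rfl] at hK
  have hidx : M.index ∣ 2 := Nat.dvd_of_mul_dvd_mul_left (by norm_num) hK
  have hNi : Nat.card N * M.index = 16 ∨ Nat.card N * M.index = 8 := by
    have e1 : Nat.card G = 2520 * (Nat.card N * M.index) := by rw [hc]; ring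
    rcases hcard with h1 | h1
    · left
      omega
    · right
      omega
  obtain ⟨a, ha1, ha2, ha⟩ : ∃ a, 2 ≤ a ∧ a ≤ 4 ∧ Nat.card N = 2 ^ a := by
    rcases (Nat.dvd_prime Nat.prime_two).1 hidx with h3 | h3 <;> rw [h3] at hNi <;> rcases hNi with h4 | h4
    · exact ⟨4, by norm_num, by norm_num, by omega⟩
    · exact ⟨3, by norm_num, by norm_num, by omega⟩
    · exact ⟨3, by norm_num, by norm_num, by omega⟩
    · exact ⟨2, by norm_num, by norm_num, by omega⟩
  have hfa : (Nat.card N).factorization 2 = a := by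
    rw [ha, Nat.Prime.factorization_pow Nat.prime_two]
    simp
  obtain ⟨h3', h5, h7, h11⟩ := nums
  have hidxN : ∀ q : ℕ, q.Prime → 8 < 2 * q → q ≤ 8 → q ∣ N.index := by
    intro q hq h1 h2
    rw [Subgroup.index_eq_card, ← M.card_mul_index]
    exact (D.primes q hq h1 h2).mul_right _
  have hadj : NonAdj G 7 2 := by
    intro g hg
    have h1 : orderOf (g ^ 2) = 7 := by
      rw [orderOf_pow' _ (by norm_num), hg]
      decide
    have h2 := hco _ h1
    have h3 : g ∈ centralizer ({g ^ 2} : Set G) := mem_cent.2 ((Commute.refl g).pow_right 2)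
    have h4 : orderOf (⟨g, h3⟩ : centralizer ({g ^ 2} : Set G)) ∣ co (g ^ 2) := orderOf_dvd_natCard _
    rw [← Subgroup.orderOf_coe, h2] at h4
    change orderOf g ∣ 7 at h4
    rw [hg] at h4
    revert h4
    decide
  -- seven
  have e7 := pow_dvd_of_normal h7 Nat.prime_two (by norm_num) hadj
    N (k := 1) (by rw [pow_one]; exact hidxN 7 h7 (by norm_num) (by norm_num))
  rw [hfa, pow_one] at e7
  have ha3 : a = 3 := by
    interval_cases a
    · revert e7; decide
    · rfl
    · revert e7; decide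
  subst ha3
  -- five
  obtain ⟨S, Q, hSN, hfrat, hcardS, hqQ, hQS⟩ := exists_normalizing' h5 Nat.prime_two N
    (hidxN 5 h5 (by norm_num) (by norm_num))
  obtain ⟨x, hx, hxo⟩ := exists_centralizing h5 Nat.prime_two (by norm_num) hqQ hcardS hQS (by
    rw [hfa]
    decide)
  have hxN : x ∉ N := by
    intro hxN
    have h6 : orderOf (⟨x, hxN⟩ : N) ∣ Nat.card N := orderOf_dvd_natCard _
    rw [← Subgroup.orderOf_coe] at h6
    change orderOf x ∣ _ at h6
    rw [hxo, ha] at h6
    revert h6
    decide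
  have hM := D.le_map_centralizer hfrat hx hxN
  -- an element of order seven centralizing `S`
  have : Fact (Nat.Prime 7) := ⟨h7⟩
  have h7C : 7 ∣ Nat.card (centralizer (S : Set G)) := by
    have h1 : 7 ∣ Nat.card M := D.primes 7 h7 (by norm_num) (by norm_num)
    have h2 : Nat.card M ∣ Nat.card ((centralizer (S : Set G)).map (QuotientGroup.mk' N)) :=
      Subgroup.card_dvd_of_le hM
    exact (h1.trans h2).trans (Subgroup.card_map_dvd _ _)
  obtain ⟨y, hy⟩ := exists_prime_orderOf_dvd_card' 7 h7C
  have hy' : orderOf (y : G) = 7 := by rw [Subgroup.orderOf_coe, hy]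
  have h8 := hco _ hy'
  have h9 : S ≤ centralizer ({(y : G)} : Set G) := by
    intro s hs
    rw [mem_cent]
    exact mem_centralizer_iff.1 y.2 s hs
  have h10 : Nat.card S ∣ co (y : G) := Subgroup.card_dvd_of_le h9
  rw [h8, hcardS, hfa] at h10
  revert h10
  decide

/-- degree eight, section `PSL(3, 4)` -/
theorem false_psl {N : Subgroup G} [N.Normal] {M : Subgroup (G ⧸ N)}
    (hMn : M.Normal) (hcard : Nat.card G = 40320 ∨ Nat.card G = 20160) (hM : Real (.psl 3 4) M)
    (hm : Nat.card M = 20160) {g : G} (hg : orderOf g = 15) : False := by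
  have hc := card_eq N M
  rw [hm] at hc
  have e1 : Nat.card G = 20160 * (Nat.card N * M.index) := by rw [hc]; ring
  have hNi : Nat.card N * M.index ∣ 2 := by
    rcases hcard with h1 | h1
    · exact ⟨1, by omega⟩
    · exact ⟨2, by omega⟩
  have hN2 : Nat.card N ∣ 2 := (Nat.dvd_mul_right _ _).trans hNi
  have hi2 : M.index ∣ 2 := (Nat.dvd_mul_left _ _).trans hNi
  have hy : (QuotientGroup.mk' N g) ^ 2 ∈ M := by
    have h1 := M.pow_index_mem (QuotientGroup.mk' N g)
    obtain ⟨c, hc⟩ := hi2
    rw [hc, pow_mul]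
    exact M.pow_mem h1 c
  -- its order
  have hyo : orderOf (QuotientGroup.mk' N g) = 15 := by
    have h1 : orderOf (QuotientGroup.mk' N g) ∣ 15 := by
      rw [← hg]
      exact orderOf_map_dvd _ g
    have h2 : g ^ orderOf (QuotientGroup.mk' N g) ∈ N := by
      rw [← QuotientGroup.eq_one_iff]
      change QuotientGroup.mk' N (g ^ orderOf (QuotientGroup.mk' N g)) = 1
      rw [map_pow]
      exact pow_orderOf_eq_one _
    have h3 : (g ^ orderOf (QuotientGroup.mk' N g)) ^ 2 = 1 := by
      obtain ⟨c, hc⟩ := hN2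
      rw [hc, pow_mul]
      have h4 : (⟨_, h2⟩ : N) ^ Nat.card N = 1 := pow_card_eq_one'
      have h5 : (g ^ orderOf (QuotientGroup.mk' N g)) ^ Nat.card N = 1 := congrArg Subtype.val h4
      rw [h5, one_pow]
    rw [← pow_mul] at h3
    have h4 := orderOf_dvd_of_pow_eq_one h3
    rw [hg] at h4
    have h5 : 15 ∣ orderOf (QuotientGroup.mk' N g) :=
      Nat.Coprime.dvd_of_dvd_mul_right (by norm_num) h4
    exact Nat.dvd_antisymm h1 h5
  have hy2 : orderOf (⟨_, hy⟩ : M) = 15 := by
    rw [← Subgroup.orderOf_coe]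
    change orderOf ((QuotientGroup.mk' N g) ^ 2) = 15
    rw [orderOf_pow' _ (by norm_num), hyo]
    decide
  obtain ⟨F, _, _, hF, ⟨e⟩⟩ := hM
  apply Cfsg.Agent.S0819.result hF (e ⟨_, hy⟩)
  rw [MulEquiv.orderOf_eq]
  exact hy2

/-- an element with centralizer order `p q` whose ... has order `p q` -/
theorem exists_order_of_co {p q : ℕ} (hp : p.Prime) (hq : q.Prime) (hpq : p ≠ q) {g : G} (hg : co g = p * q)
    (h1 : g ≠ 1) : ∃ h : G, orderOf h = p * q := by
  have hgm : g ∈ centralizer ({g} : Set G) := mem_cent.2 rfl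
  have hd : orderOf g ∣ p * q := by
    have h0 := orderOf_dvd_natCard (⟨g, hgm⟩ : centralizer ({g} : Set G))
    rw [← Subgroup.orderOf_coe] at h0
    rw [← hg]
    exact h0
  have hne : orderOf g ≠ 1 := fun h => h1 (orderOf_eq_one_iff.1 h)
  have hcop : Nat.Coprime p q := (Nat.coprime_primes hp hq).2 hpq
  have key : ∀ {r s : ℕ}, r.Prime → s.Prime → r ≠ s → r * s = p * q → orderOf g = r → ∃ h : G, orderOf h = p * q := by
    intro r s hr hs hrs hrspq ho
    have : Fact s.Prime := ⟨hs⟩
    have h2 : s ∣ Nat.card (centralizer ({g} : Set G)) := by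
      change s ∣ co g
      rw [hg, ← hrspq]
      exact dvd_mul_left s r
    obtain ⟨y, hy⟩ := exists_prime_orderOf_dvd_card' s h2
    have hy' : orderOf (y : G) = s := by rw [Subgroup.orderOf_coe, hy]
    have hc : Commute g (y : G) := (mem_cent.1 y.2).symm
    refine ⟨g * y, ?_⟩
    rw [hc.orderOf_mul_eq_mul_orderOf_of_coprime (by rw [ho, hy']; exact (Nat.coprime_primes hr hs).2 hrs), ho, hy',
      hrspq]
  obtain ⟨c, hc⟩ := hd
  -- `p` or `q` divides the order
  obtain ⟨r, hr, hrd⟩ := Nat.exists_prime_and_dvd hne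
  have hrpq : r ∣ p * q := hrd.trans ⟨c, hc⟩
  have hor : r = p ∨ r = q := by
    rcases hr.dvd_mul.1 hrpq with h | h
    · exact Or.inl ((Nat.prime_dvd_prime_iff_eq hr hp).1 h)
    · exact Or.inr ((Nat.prime_dvd_prime_iff_eq hr hq).1 h)
  rcases hor with rfl | rfl
  · obtain ⟨d, hd⟩ := hrd
    have h2 : d ∣ q := by
      rw [hd, mul_assoc] at hc
      have := Nat.eq_of_mul_eq_mul_left hr.pos hc
      exact ⟨c, this⟩
    rcases (Nat.dvd_prime hq).1 h2 with h3 | h3
    · rw [h3, mul_one] at hd
      exact key hr hq hpq rfl hd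
    · exact ⟨g, by rw [hd, h3]⟩
  · obtain ⟨d, hd⟩ := hrd
    have h2 : d ∣ p := by
      rw [hd, mul_assoc, mul_comm p r] at hc
      have := Nat.eq_of_mul_eq_mul_left hr.pos hc
      exact ⟨c, this⟩
    rcases (Nat.dvd_prime hp).1 h2 with h3 | h3
    · rw [h3, mul_one] at hd
      exact key hr hp (Ne.symm hpq) (mul_comm _ _) hd
    · exact ⟨g, by rw [hd, h3, mul_comm]⟩

/-- degree ten, the second Janko group -/
theorem false_janko {N : Subgroup G} [N.Normal] {M : Subgroup (G ⧸ N)} (D : Data G 10 N M)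
    (hcard : Nat.card G = 3628800 ∨ Nat.card G = 1814400) (hJ : Spor.IsoJ2 M) (hm : Nat.card M = 604800)
    (hZ : ∀ g : G, 225 ∣ co g → g ∈ center G) (hZ1 : center G = ⊥) :
    False := by
  have hMn := D.normal
  obtain ⟨e⟩ := hJ
  have hc := card_eq N M
  rw [hm] at hc
  have e1 : Nat.card G = 604800 * (Nat.card N * M.index) := by rw [hc]; ring
  -- the index
  have hfin : Finite Spor.J2 := Finite.of_equiv _ e.toEquiv
  have hcJ : Nat.card Spor.J2 = 604800 := by rw [← Nat.card_congr e.toEquiv, hm]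
  have hidx : M.index ∣ 2 := by
    let φ : (G ⧸ N) →* MulAut Spor.J2 :=
      (MulAut.congr e).toMonoidHom.comp (MulAut.conjNormal : (G ⧸ N) →* MulAut M)
    have hφ : Function.Injective φ := (MulAut.congr e).injective.comp D.conj_injective
    have h1 := Subgroup.card_dvd_of_injective φ hφ
    rw [← (Inn Spor.J2).card_mul_index, Subgroup.index_eq_card] at h1
    have h2 : Nat.card (MulAut Spor.J2 ⧸ Inn Spor.J2) = 2 := Cfsg.Agent.S2066.result
    rw [h2] at h1
    have h3 : Nat.card (Inn Spor.J2) ∣ Nat.card Spor.J2 := Subgroup.card_range_dvd _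
    have h4 := h1.trans (Nat.mul_dvd_mul_right h3 2)
    rw [hcJ, ← M.card_mul_index, hm] at h4
    exact Nat.dvd_of_mul_dvd_mul_left (by norm_num) h4
  have hNi : Nat.card N * M.index = 6 ∨ Nat.card N * M.index = 3 := by
    rcases hcard with h1 | h1
    · left
      omega
    · right
      omega
  have h3N : (Nat.card N).factorization 3 = 1 := by
    have hN : Nat.card N = 6 ∨ Nat.card N = 3 := by
      rcases (Nat.dvd_prime Nat.prime_two).1 hidx with h3 | h3 <;> rw [h3] at hNi <;> omega
    rcases hN with h1 | h1 <;> rw [h1]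
    · rw [show (6 : ℕ) = 2 * 3 by norm_num, Nat.factorization_mul (by norm_num) (by norm_num), Finsupp.add_apply,
        Nat.Prime.factorization Nat.prime_two, Nat.Prime.factorization Nat.prime_three]
      simp
    · rw [Nat.Prime.factorization Nat.prime_three]
      simp
  obtain ⟨h3', h5, h7, h11⟩ := nums
  have hidxN : 7 ∣ N.index := by
    rw [Subgroup.index_eq_card, ← M.card_mul_index]
    exact (D.primes 7 h7 (by norm_num) (by norm_num)).mul_right _
  obtain ⟨S, Q, hSN, hfrat, hcardS, hqQ, hQS⟩ := exists_normalizing' h7 h3' N hidxN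
  obtain ⟨x, hx, hxo⟩ := exists_centralizing h7 h3' (by norm_num) hqQ hcardS hQS (by
    rw [h3N]
    decide)
  have hN6 : Nat.card N ∣ 6 := by
    rcases hNi with h | h
    · exact ⟨M.index, h.symm⟩
    · exact ⟨2 * M.index, by
          have : Nat.card N * (2 * M.index) = 2 * (Nat.card N * M.index) := by ring
          omega⟩
  have hxN : x ∉ N := by
    intro hxN
    have h6 : orderOf (⟨x, hxN⟩ : N) ∣ Nat.card N := orderOf_dvd_natCard _
    rw [← Subgroup.orderOf_coe] at h6
    change orderOf x ∣ _ at h6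
    rw [hxo] at h6
    have := h6.trans hN6
    revert this
    decide
  -- the centralizer
  have : Fact (Nat.Prime 3) := ⟨h3'⟩
  have : Fact (Nat.Prime 5) := ⟨h5⟩
  obtain ⟨z, hz⟩ := exists_prime_orderOf_dvd_card' 3 (by rw [hcardS, h3N]; decide : 3 ∣ Nat.card S)
  have hz' : orderOf (z : G) = 3 := by rw [Subgroup.orderOf_coe, hz]
  have hM := D.le_map_centralizer hfrat hx hxN
  have hM' : M ≤ (centralizer ({(z : G)} : Set G)).map (QuotientGroup.mk' N) := by
    refine hM.trans (Subgroup.map_mono ?_)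
    apply centralizer_le
    rintro _ rfl
    exact z.2
  obtain ⟨u, hu⟩ : (15 : ℕ) ∈ Set.range (orderOf : Spor.J2 → ℕ) := by
    rw [Cfsg.Agent.H379.J2Spec.range_J2]
    decide
  have hu' : orderOf (e.symm u) = 15 := by rw [MulEquiv.orderOf_eq]; exact hu
  obtain ⟨c, hc, hcu⟩ := hM' (e.symm u).2
  have hcz : Commute c (z : G) := mem_cent.1 hc
  have hco : orderOf (QuotientGroup.mk' N c) = 15 := by
    rw [hcu, Subgroup.orderOf_coe, hu']
  -- the element of order five
  have h15c : 15 ∣ orderOf c := by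
    rw [← hco]
    exact orderOf_map_dvd _ c
  obtain ⟨k, hk⟩ := h15c
  have hk0 : k ≠ 0 := by
    rintro rfl
    rw [mul_zero] at hk
    exact (orderOf_pos c).ne' hk
  have hf5 : orderOf (c ^ (3 * k)) = 5 := by
    rw [orderOf_pow_of_dvd (by omega) ⟨5, by rw [hk]; ring⟩, hk, show 15 * k = 5 * (3 * k) by ring]
    exact Nat.mul_div_cancel _ (by omega)
  set f : G := c ^ (3 * k) with hf
  have hcf : Commute c f := (Commute.refl c).pow_right _
  have hzf : Commute (z : G) f := hcz.symm.pow_right _
  -- `9` divides the order of the centralizer of `f`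
  have h9 : 9 ∣ co f := by
    have hcm : c ∈ centralizer ({f} : Set G) := mem_cent.2 hcf
    have hzm : (z : G) ∈ centralizer ({f} : Set G) := mem_cent.2 hzf
    -- the restriction of the quotient map
    let ψ : centralizer ({f} : Set G) →* (G ⧸ N) := (QuotientGroup.mk' N).comp (centralizer ({f} : Set G)).subtype
    have h1 : co f = Nat.card ψ.ker * Nat.card ψ.range := by
      have := ψ.ker.card_mul_index
      rw [Subgroup.index_ker] at this
      exact this.symm
    rw [h1, show (9 : ℕ) = 3 * 3 by norm_num]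
    apply Nat.mul_dvd_mul
    · have h2 : (⟨z, hzm⟩ : centralizer ({f} : Set G)) ∈ ψ.ker := by
        rw [MonoidHom.mem_ker]
        exact (QuotientGroup.eq_one_iff (z : G)).2 (hSN z.2)
      have h3 : orderOf (⟨_, h2⟩ : ψ.ker) = 3 := by
        rw [← Subgroup.orderOf_coe, ← Subgroup.orderOf_coe]
        exact hz'
      rw [← h3]
      exact orderOf_dvd_natCard _
    · have h3 : orderOf (⟨ψ ⟨c, hcm⟩, ⟨_, rfl⟩⟩ : ψ.range) = 15 := by
        rw [← Subgroup.orderOf_coe]
        exact hco
      have h4 : (15 : ℕ) ∣ Nat.card ψ.range := by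
        rw [← h3]
        exact orderOf_dvd_natCard _
      exact (show 3 ∣ 15 by decide).trans h4
  -- `25` divides the order of the centralizer of `f`
  have h25 : 25 ∣ co f := by
    have hfac : (Nat.card G).factorization 5 = 2 := by
      have h1 : 5 ^ 2 ∣ Nat.card G := by
        rcases hcard with h | h <;> rw [h] <;> decide
      have h2 : ¬ 5 ^ 3 ∣ Nat.card G := by
        rcases hcard with h | h <;> rw [h] <;> decide
      rw [h5.pow_dvd_iff_le_factorization Nat.card_pos.ne'] at h1 h2
      omega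
    have hp : IsPGroup 5 (zpowers f) := by
      apply IsPGroup.of_card (n := 1)
      rw [Nat.card_zpowers, hf5, pow_one]
    obtain ⟨P, hP⟩ := hp.exists_le_sylow
    have hPc : Nat.card P = 5 ^ 2 := by
      rw [P.card_eq_multiplicity, hfac]
    have hcomm := IsPGroup.commutative_of_card_eq_prime_sq hPc
    have hle : (P : Subgroup G) ≤ centralizer ({f} : Set G) := by
      intro y hy
      rw [mem_cent]
      have hfP : f ∈ (P : Subgroup G) := hP (mem_zpowers f)
      exact congrArg Subtype.val (hcomm ⟨y, hy⟩ ⟨f, hfP⟩)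
    have h3 : Nat.card P ∣ co f := Subgroup.card_dvd_of_le hle
    rw [hPc] at h3
    exact h3
  have h225 : 225 ∣ co f := by
    have := Nat.Coprime.mul_dvd_of_dvd_of_dvd (by decide : Nat.Coprime 9 25) h9 h25
    exact this
  have h1 := hZ f h225
  rw [hZ1, mem_bot] at h1
  rw [h1, orderOf_one] at hf5
  omega

end

end Cfsg.Agent.H367.ClsFin
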