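import Cfsg.Agent.H367.ClsSmall
import Cfsg.Agent.H367.ClsFin

/-!
# Order and class sizes: the degrees `n ≤ 12` (helper367)
-/

set_option autoImplicit false

namespace Cfsg.Agent.H367.ClsMain

open Cfsg Cfsg.Agent.OrdDiv Cfsg.Agent.H357.Reduce Cfsg.Agent.H363.Frat Cfsg.Agent.H363.AltPrimes
open Cfsg.Agent.H367.ClsGrp Cfsg.Agent.H367.ClsSmall Cfsg.Agent.H367.ClsFin Cfsg.Agent.H367.ClsList Subgroup

universe u

/-- the possible sections in degree `n` -/
def Poss (n : ℕ) (g : Grp) : Prop :=
  g = .alt n ∨ (n = 5 ∧ g = .psl 2 4) ∨ (n = 5 ∧ g = .psl 2 5) ∨ (n = 6 ∧ g = .psl 2 9) ∨ (n = 8 ∧ g = .psl 4 2) ∨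
    (n = 8 ∧ g = .psl 3 4) ∨ (n = 8 ∧ g = .alt 7) ∨ (n = 10 ∧ g = .j2)

instance clsMainDecPoss (n : ℕ) (g : Grp) : Decidable (Poss n g) := by unfold Poss; infer_instance

/-- the second certificate -/
def check2 (n : ℕ) (L : List ℕ) (N : ℕ) (B : List ℕ) (out : List Grp) : Bool :=
  (out.all fun g => decide (Poss n g) && (List.range (n + 1)).all fun q =>
    !(isPrimeB q) || !(Nat.blt n (2 * q)) || ordN g % q == 0) &&
  (!(n == 6) || !(N == 720) || L.contains 6) && (!(n == 8) || L.contains 15 && B == [7]) &&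
  (!(n == 10) || L.all fun c => !(c % 225 == 0) || c == N)

theorem isPrimeB_of {q : ℕ} (hq : q.Prime) (h : q ≤ 12) : isPrimeB q = true := by
  interval_cases q <;> first | decide | (exfalso; revert hq; decide)

theorem core (T : OrderTable.{u}) {G : Type u} [Group G] [Finite G]
    (hcl : ∀ (S : Type u) [Group S] [Finite S] [IsSimpleGroup S], IsKnownSimple' S)
    {L : List ℕ} (h : CSet G L) {n p : ℕ} {B : List ℕ} {l : List (ℕ × ℕ)} {conds : List (ℕ × ℕ × ℕ)} {out : List Grp}
    (hn : 5 ≤ n) (hn2 : n ≤ 12) (hcard : Nat.card G = n.factorial ∨ 2 * Nat.card G = n.factorial)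
    (hc : check L (Nat.card G) p B l conds out = true) (hc2 : check2 n L (Nat.card G) B out = true)
    (hp7 : n = 8 → p = 7) :
    Nonempty (G ≃* Equiv.Perm (Fin n)) ∨ Nonempty (G ≃* alternatingGroup (Fin n)) := by
  obtain ⟨hZ, hp, hB, N, hN, M, D0, hnab, g, hg, hr, ho⟩ := exists_sec T hcl h hc
  unfold check2 at hc2
  simp only [Bool.and_eq_true, Bool.or_eq_true, Bool.not_eq_true', beq_eq_false_iff_ne, beq_iff_eq,
    List.contains_iff_mem, List.all_eq_true, decide_eq_true_eq] at hc2
  obtain ⟨⟨⟨hout, h6⟩, h8⟩, h10⟩ := hc2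
  obtain ⟨hposs, hpr⟩ := hout g hg
  have D : Data G n N M := ⟨D0.normal, D0.simple, hnab, D0.cent hnab, fun q hq h1 h2 => by
    rw [ho]
    rcases hpr q (List.mem_range.2 (by omega)) with (h3 | h3) | h3
    · rw [isPrimeB_of hq (by omega)] at h3
      exact absurd h3 (by decide)
    · exfalso
      have : Nat.blt n (2 * q) = true := by rw [Nat.blt_eq]; exact h1
      rw [this] at h3
      exact absurd h3 (by decide)
    · exact Nat.dvd_of_mod_eq_zero h3⟩
  -- an element of order `6` or `15`
  have hone : ∀ c ∈ L, c < Nat.card G → ∃ x : G, co x = c ∧ x ≠ 1 := by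
    intro c hcL hlt
    obtain ⟨x, hx⟩ := h.ex c hcL
    refine ⟨x, hx, ?_⟩
    rintro rfl
    have h1 : co (1 : G) = Nat.card G := by
      unfold co
      have h2 : centralizer ({1} : Set G) = ⊤ := by
        rw [eq_top_iff]
        intro y _
        rw [mem_cent, mul_one, one_mul]
      rw [h2, Subgroup.card_top]
    omega
  -- the alternating section
  have key : Nonempty (M ≃* alternatingGroup (Fin n)) →
      Nonempty (G ≃* Equiv.Perm (Fin n)) ∨ Nonempty (G ≃* alternatingGroup (Fin n)) := by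
    rintro ⟨e⟩
    have hm : 2 * Nat.card M = n.factorial := by
      rw [Nat.card_congr e.toEquiv]
      exact Cfsg.Agent.H363.AltPrimes.card_alternating (by omega)
    apply fin_eq hZ hcard e hm
    intro hcG
    by_cases h6n : n = 6
    · subst h6n
      have h720 : Nat.card G = 720 := hcG
      obtain ⟨x, hx, hx1⟩ := hone 6 (by simpa [h720] using h6) (by rw [hcG]; decide)
      obtain ⟨y, hy⟩ := exists_order_of_co Nat.prime_two Nat.prime_three (by norm_num) (g := x) hx hx1
      refine D.hom_six e (by rw [hcG]; decide) ?_ y hy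
      have : Nat.factorial 6 = 720 := by decide
      omega
    · exact D.exists_hom' (by omega) h6n e
  rcases hposs with rfl | ⟨rfl, rfl⟩ | ⟨rfl, rfl⟩ | ⟨rfl, rfl⟩ | ⟨rfl, rfl⟩ | ⟨rfl, rfl⟩ | ⟨rfl, rfl⟩ | ⟨rfl, rfl⟩
  · exact key hr
  · obtain ⟨F, _, _, hF, ⟨e⟩⟩ := hr
    obtain ⟨e'⟩ := Cfsg.Agent.S0252.result hF
    exact key ⟨e.trans e'⟩
  · obtain ⟨F, _, _, hF, ⟨e⟩⟩ := hr
    obtain ⟨e'⟩ := Cfsg.Agent.S0253.result hF
    exact key ⟨e.trans e'⟩
  · obtain ⟨F, _, _, hF, ⟨e⟩⟩ := hr
    obtain ⟨e'⟩ := Cfsg.Agent.S0254.result hF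
    exact key ⟨e.trans e'⟩
  · obtain ⟨F, _, _, hF, ⟨e⟩⟩ := hr
    obtain ⟨e'⟩ := Cfsg.Agent.S0256.result hF
    exact key ⟨e.trans e'⟩
  · exfalso
    have h8' : 15 ∈ L ∧ B = [7] := by simpa using h8
    have hcard' : Nat.card G = 40320 ∨ Nat.card G = 20160 := by
      have : Nat.factorial 8 = 40320 := by decide
      omega
    obtain ⟨x, hx, hx1⟩ := hone 15 h8'.1 (by omega)
    obtain ⟨y, hy⟩ := exists_order_of_co Nat.prime_three Nat.prime_five (by norm_num) (g := x) hx hx1
    exact false_psl D.normal hcard' hr (ho.trans (by decide)) hy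
  · exfalso
    have h8' : 15 ∈ L ∧ B = [7] := by simpa using h8
    have hcard' : Nat.card G = 40320 ∨ Nat.card G = 20160 := by
      have : Nat.factorial 8 = 40320 := by decide
      omega
    obtain ⟨e⟩ := hr
    refine false_seven D hcard' ?_ e
    intro x hx
    have := hB x (by rw [hx, hp7 rfl])
    rw [h8'.2] at this
    exact List.mem_singleton.1 this
  · exfalso
    have hcard' : Nat.card G = 3628800 ∨ Nat.card G = 1814400 := by
      have : Nat.factorial 10 = 3628800 := by decide
      omega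
    refine false_janko D hcard' hr (ho.trans (by decide)) ?_ hZ
    intro x hx
    rcases h10 with h10 | h10
    · exact absurd rfl h10
    · rcases h10 (co x) (h.mem x) with h11 | h11
      · exact absurd (Nat.mod_eq_zero_of_dvd hx) h11
      · have h2 : centralizer ({x} : Set G) = ⊤ := Subgroup.eq_top_of_card_eq _ h11
        rw [mem_center_iff]
        intro g
        have h3 : g ∈ centralizer ({x} : Set G) := by rw [h2]; exact mem_top g
        exact mem_cent.1 h3

/-! ### the certificates -/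

def dS : ℕ → ℕ × List ℕ × List (ℕ × ℕ) × List (ℕ × ℕ × ℕ) × List Grp
  | 5 => (5, [5], [(2, 3), (3, 1), (5, 1)], [(2, 3, 2), (3, 1, 0)], [.alt 5, .psl 2 4, .psl 2 5])
  | 6 => (5, [5], [(2, 4), (3, 2), (5, 1)], [(2, 4, 2), (3, 2, 0)], [.alt 6, .psl 2 9])
  | 7 => (7, [7], [(2, 4), (3, 2), (5, 1), (7, 1)], [(3, 2, 1), (5, 1, 0)], [.alt 7])
  | 8 => (7, [7], [(2, 7), (3, 2), (5, 1), (7, 1)], [(3, 2, 1), (5, 1, 0)], [.alt 7, .alt 8, .psl 4 2, .psl 3 4])
  | 9 => (7, [14], [(2, 7), (3, 4), (5, 1), (7, 1)], [(3, 4, 1), (5, 1, 0)], [.alt 9])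
  | 10 => (7, [14, 21, 42], [(2, 8), (3, 4), (5, 2), (7, 1)], [(5, 2, 0)], [.alt 10, .j2])
  | 11 => (11, [11], [(2, 8), (3, 4), (5, 2), (7, 1), (11, 1)], [(2, 8, 1), (3, 4, 0), (5, 2, 1), (7, 1, 0)], [.alt 11])
  | 12 => (11, [11], [(2, 10), (3, 5), (5, 2), (7, 1), (11, 1)], [(2, 10, 1), (5, 2, 1), (7, 1, 0)], [.alt 12])
  | _ => (0, [], [], [], [])

def dA : ℕ → ℕ × List ℕ × List (ℕ × ℕ) × List (ℕ × ℕ × ℕ) × List Grp
  | 5 => (5, [5], [(2, 2), (3, 1), (5, 1)], [(3, 1, 0)], [.alt 5, .psl 2 4, .psl 2 5])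
  | 6 => (5, [5], [(2, 3), (3, 2), (5, 1)], [(2, 3, 2), (3, 2, 0)], [.alt 6, .psl 2 9])
  | 7 => (7, [7], [(2, 3), (3, 2), (5, 1), (7, 1)], [(2, 3, 1), (3, 2, 1), (5, 1, 0)], [.alt 7])
  | 8 => (7, [7], [(2, 6), (3, 2), (5, 1), (7, 1)], [(3, 2, 1), (5, 1, 0)], [.alt 7, .alt 8, .psl 4 2, .psl 3 4])
  | 9 => (7, [7], [(2, 6), (3, 4), (5, 1), (7, 1)], [(3, 4, 1), (5, 1, 0)], [.alt 9])
  | 10 => (7, [21], [(2, 7), (3, 4), (5, 2), (7, 1)], [(5, 2, 0)], [.alt 10, .j2])
  | 11 => (11, [11], [(2, 7), (3, 4), (5, 2), (7, 1), (11, 1)], [(2, 7, 1), (3, 4, 0), (5, 2, 1), (7, 1, 0)], [.alt 11])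
  | 12 => (11, [11], [(2, 9), (3, 5), (5, 2), (7, 1), (11, 1)], [(2, 9, 1), (5, 2, 1), (7, 1, 0)], [.alt 12])
  | _ => (0, [], [], [], [])

def certS (n : ℕ) : Bool := check (zl n n) n.factorial (dS n).1 (dS n).2.1 (dS n).2.2.1 (dS n).2.2.2.1 (dS n).2.2.2.2 &&
  check2 n (zl n n) n.factorial (dS n).2.1 (dS n).2.2.2.2 && (!(n == 8) || (dS n).1 == 7)

def certA (n : ℕ) : Bool := check (altl n) (n.factorial / 2) (dA n).1 (dA n).2.1 (dA n).2.2.1 (dA n).2.2.2.1 (dA n).2.2.2.2 &&
  check2 n (altl n) (n.factorial / 2) (dA n).2.1 (dA n).2.2.2.2 && (!(n == 8) || (dA n).1 == 7)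

theorem certS_5 : certS 5 = true := by decide +kernel
theorem certS_6 : certS 6 = true := by decide +kernel
theorem certS_7 : certS 7 = true := by decide +kernel
theorem certS_8 : certS 8 = true := by decide +kernel
theorem certS_9 : certS 9 = true := by decide +kernel
theorem certS_10 : certS 10 = true := by decide +kernel
theorem certS_11 : certS 11 = true := by decide +kernel
theorem certS_12 : certS 12 = true := by decide +kernel
theorem certA_5 : certA 5 = true := by decide +kernel
theorem certA_6 : certA 6 = true := by decide +kernel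
theorem certA_7 : certA 7 = true := by decide +kernel
theorem certA_8 : certA 8 = true := by decide +kernel
theorem certA_9 : certA 9 = true := by decide +kernel
theorem certA_10 : certA 10 = true := by decide +kernel
theorem certA_11 : certA 11 = true := by decide +kernel
theorem certA_12 : certA 12 = true := by decide +kernel

theorem certS_all {n : ℕ} (h1 : 5 ≤ n) (h2 : n ≤ 12) : certS n = true := by
  interval_cases n
  · exact certS_5
  · exact certS_6
  · exact certS_7
  · exact certS_8
  · exact certS_9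
  · exact certS_10
  · exact certS_11
  · exact certS_12

theorem certA_all {n : ℕ} (h1 : 5 ≤ n) (h2 : n ≤ 12) : certA n = true := by
  interval_cases n
  · exact certA_5
  · exact certA_6
  · exact certA_7
  · exact certA_8
  · exact certA_9
  · exact certA_10
  · exact certA_11
  · exact certA_12

theorem card_perm (n : ℕ) : Nat.card (Equiv.Perm (Fin n)) = n.factorial := by
  rw [Nat.card_eq_fintype_card, Fintype.card_perm, Fintype.card_fin]

/-- degrees three and four: `3` and `2` are not adjacent -/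
theorem nonAdj_three {G : Type*} [Group G] [Finite G] {L : List ℕ} (h : CSet G L) (hg : L.foldr Nat.gcd 0 = 1)
    (h9 : ¬ 3 ^ 2 ∣ Nat.card G) (hB : typeOk L 3 (Nat.card G) [3] = true) : NonAdj G 3 2 := by
  apply nonAdj_of Nat.prime_three Nat.prime_two (B := [3]) (fun x hx => co_mem h hg Nat.prime_three h9 hB hx)
  intro b hb
  rw [List.mem_singleton] at hb
  subst hb
  decide

/-- **Symmetric groups of degree at most twelve** -/
theorem sym_small (T : OrderTable.{u}) (hcl : ∀ (S : Type u) [Group S] [Finite S] [IsSimpleGroup S], IsKnownSimple' S)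
    {n : ℕ} (hn : n ≤ 12) {G : Type u} [Group G] [Finite G]
    (hcard : Nat.card G = Nat.card (Equiv.Perm (Fin n)))
    (hcs : Set.range (fun g : G => (Subgroup.centralizer ({g} : Set G)).index) =
      Set.range (fun g : (Equiv.Perm (Fin n)) => (Subgroup.centralizer ({g} : Set (Equiv.Perm (Fin n)))).index)) :
    Nonempty (G ≃* Equiv.Perm (Fin n)) := by
  have h : CSet G (zl n n) := (cset_sym n).of_range hcard hcs
  have hcG := hcard
  rw [card_perm] at hcG
  have fin : Nonempty (G ≃* Equiv.Perm (Fin n)) ∨ Nonempty (G ≃* alternatingGroup (Fin n)) → 2 ≤ n →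
      Nonempty (G ≃* Equiv.Perm (Fin n)) := by
    rintro (h1 | ⟨⟨e⟩⟩) h2
    · exact h1
    · exfalso
      have h3 := Cfsg.Agent.H363.AltPrimes.card_alternating h2
      rw [← Nat.card_congr e.toEquiv, hcG] at h3
      have := n.factorial_pos
      omega
  rcases Nat.lt_or_ge n 5 with hn5 | hn5
  · interval_cases n
    · exact equiv_of_card_one hcG (card_perm 0)
    · exact equiv_of_card_one hcG (card_perm 1)
    · have : Fact (Nat.Prime 2) := ⟨Nat.prime_two⟩
      exact ⟨mulEquivOfPrimeCardEq (p := 2) hcG (card_perm 2)⟩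
    · refine fin (of_embed (Or.inl hcG) (embed_three hcG ?_)) (by norm_num)
      exact nonAdj_three h (by decide +kernel) (by rw [hcG]; decide +kernel) (by rw [hcG]; decide +kernel)
    · refine fin (of_embed (Or.inl hcG) (embed_four (Or.inl hcG) ?_)) (by norm_num)
      exact nonAdj_three h (by decide +kernel) (by rw [hcG]; decide +kernel) (by rw [hcG]; decide +kernel)
  · have hc := certS_all hn5 hn
    unfold certS at hc
    rw [← hcG] at hc
    simp only [Bool.and_eq_true] at hc
    refine fin (core T hcl h hn5 hn (Or.inl hcG) hc.1.1 hc.1.2 ?_) (by omega)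
    intro h8
    have := hc.2
    rw [h8] at this ⊢
    simpa using this

/-- **Alternating groups of degree at most twelve** -/
theorem alt_small (T : OrderTable.{u}) (hcl : ∀ (S : Type u) [Group S] [Finite S] [IsSimpleGroup S], IsKnownSimple' S)
    {n : ℕ} (hn : n ≤ 12) {G : Type u} [Group G] [Finite G]
    (hcard : Nat.card G = Nat.card (alternatingGroup (Fin n)))
    (hcs : Set.range (fun g : G => (Subgroup.centralizer ({g} : Set G)).index) =
      Set.range (fun g : (alternatingGroup (Fin n)) =>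
        (Subgroup.centralizer ({g} : Set (alternatingGroup (Fin n)))).index)) :
    Nonempty (G ≃* alternatingGroup (Fin n)) := by
  have h : CSet G (altl n) := (cset_alt n).of_range hcard hcs
  have hca : 2 ≤ n → 2 * Nat.card (alternatingGroup (Fin n)) = n.factorial := fun h =>
    Cfsg.Agent.H363.AltPrimes.card_alternating h
  have fin : Nonempty (G ≃* Equiv.Perm (Fin n)) ∨ Nonempty (G ≃* alternatingGroup (Fin n)) → 2 ≤ n →
      Nonempty (G ≃* alternatingGroup (Fin n)) := by
    rintro (⟨⟨e⟩⟩ | h1) h2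
    · exfalso
      have h3 := hca h2
      rw [← hcard, Nat.card_congr e.toEquiv, card_perm] at h3
      have := n.factorial_pos
      omega
    · exact h1
  rcases Nat.lt_or_ge n 5 with hn5 | hn5
  · interval_cases n
    · have h0 : Nat.card (alternatingGroup (Fin 0)) = 1 := by
        rw [Nat.card_eq_fintype_card]
        decide
      exact equiv_of_card_one (hcard.trans h0) h0
    · have h0 : Nat.card (alternatingGroup (Fin 1)) = 1 := by
        rw [Nat.card_eq_fintype_card]
        decide
      exact equiv_of_card_one (hcard.trans h0) h0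
    · have h0 : Nat.card (alternatingGroup (Fin 2)) = 1 := by
        have := hca le_rfl
        have h3 : Nat.factorial 2 = 2 := rfl
        omega
      exact equiv_of_card_one (hcard.trans h0) h0
    · have h0 : Nat.card (alternatingGroup (Fin 3)) = 3 := by
        have := hca (by norm_num)
        have h3 : Nat.factorial 3 = 6 := rfl
        omega
      have : Fact (Nat.Prime 3) := ⟨Nat.prime_three⟩
      exact ⟨mulEquivOfPrimeCardEq (p := 3) (hcard.trans h0) h0⟩
    · have h0 : Nat.card (alternatingGroup (Fin 4)) = 12 := by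
        have := hca (by norm_num)
        have h3 : Nat.factorial 4 = 24 := rfl
        omega
      have hcG := hcard.trans h0
      refine fin (of_embed (Or.inr (by rw [hcG]; rfl)) (embed_four (Or.inr hcG) ?_)) (by norm_num)
      exact nonAdj_three h (by decide +kernel) (by rw [hcG]; decide +kernel) (by rw [hcG]; decide +kernel)
  · have hcG : Nat.card G = n.factorial / 2 := by
      have := hca (by omega)
      rw [hcard]
      omega
    have hc := certA_all hn5 hn
    unfold certA at hc
    rw [← hcG] at hc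
    simp only [Bool.and_eq_true] at hc
    refine fin (core T hcl h hn5 hn (Or.inr ?_) hc.1.1 hc.1.2 ?_) (by omega)
    · rw [hcard]
      exact hca (by omega)
    · intro h8
      have := hc.2
      rw [h8] at this ⊢
      simpa using this

end Cfsg.Agent.H367.ClsMain
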