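import Mathlib
import Cfsg.Agent.H367.ListGrp2
import Cfsg.Agent.ChevalleyStructure.G2Two.USide
import Cfsg.Agent.SporadicStructure.PsuMatch

/-!
# The element orders of `PSU(3,3)`
-/

set_option autoImplicit false
set_option linter.unusedSimpArgs false

namespace Cfsg.Agent.H367.SpecU33

open Matrix Polynomial Cfsg.Agent.ChevalleyStructure.NineField Cfsg.Agent.ChevalleyStructure.G2Two

theorem dvd_of_form {F : Type*} [Field F] (i : F) (h3 : (3 : F[X]) = 0) (hi : (C i : F[X]) ^ 2 + 1 = 0) (a b : F)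
    (ha : a = 0 ∨ a = 1 ∨ a = 2) (hb : b = 0 ∨ b = 1 ∨ b = 2) :
    (X ^ 3 - C (a + b * i) * X ^ 2 + C (a - b * i) * X - 1 : F[X]) ∣ X ^ 12 - 1 ∨
    (X ^ 3 - C (a + b * i) * X ^ 2 + C (a - b * i) * X - 1 : F[X]) ∣ X ^ 8 - 1 ∨
    (X ^ 3 - C (a + b * i) * X ^ 2 + C (a - b * i) * X - 1 : F[X]) ∣ X ^ 7 - 1 := by
  rcases ha with rfl | rfl | rfl <;> rcases hb with rfl | rfl | rfl
  · left
    exact ⟨1 + 1*X^3 + 1*X^6 + 1*X^9, by
      simp only [map_zero, map_one, map_ofNat, map_add, map_sub, map_mul]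
      linear_combination (0) * h3 + (0) * hi⟩
  · right; left
    exact ⟨1 + (-1)*X^1*C i^1 + (-1)*X^2 + (-1)*X^2*C i^1 + (-1)*X^3 + 1*X^3*C i^1 + 1*X^4*C i^1 + 1*X^5, by
      simp only [map_zero, map_one, map_ofNat, map_add, map_sub, map_mul]
      linear_combination (0) * h3 + ((-1)*X^2 + (-2)*X^3 + 2*X^5 + 1*X^6) * hi⟩
  · right; left
    exact ⟨1 + 1*X^1*C i^1 + (-1)*X^2 + 1*X^2*C i^1 + (-1)*X^3 + (-1)*X^3*C i^1 + (-1)*X^4*C i^1 + 1*X^5, by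
      simp only [map_zero, map_one, map_ofNat, map_add, map_sub, map_mul]
      linear_combination (1*X^1*C i^1 + (-1)*X^2 + 1*X^2*C i^1 + (-2)*X^3 + (-1)*X^3*C i^1 + (-2)*X^4*C i^1 + 2*X^5 + (-1)*X^5*C i^1 + 1*X^6 + 1*X^6*C i^1 + 1*X^7*C i^1) * h3 + (2*X^2 + 4*X^3 + (-4)*X^5 + (-2)*X^6) * hi⟩
  · left
    exact ⟨1 + 1*X^1 + 1*X^4 + 1*X^5 + 1*X^8 + 1*X^9, by
      simp only [map_zero, map_one, map_ofNat, map_add, map_sub, map_mul]
      linear_combination (0) * h3 + (0) * hi⟩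
  · right; right
    exact ⟨1 + 1*X^1 + (-1)*X^1*C i^1 + (-1)*X^2 + 1*X^3 + 1*X^3*C i^1 + 1*X^4, by
      simp only [map_zero, map_one, map_ofNat, map_add, map_sub, map_mul]
      linear_combination (1*X^2*C i^1 + 1*X^3 + (-1)*X^4 + 1*X^5*C i^1) * h3 + ((-1)*X^2 + (-1)*X^3 + 1*X^4 + 1*X^5) * hi⟩
  · right; right
    exact ⟨1 + 1*X^1 + 1*X^1*C i^1 + (-1)*X^2 + 1*X^3 + (-1)*X^3*C i^1 + 1*X^4, by
      simp only [map_zero, map_one, map_ofNat, map_add, map_sub, map_mul]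
      linear_combination (1*X^1*C i^1 + (-1)*X^2 + 1*X^2*C i^1 + 1*X^5 + 1*X^5*C i^1 + 1*X^6*C i^1) * h3 + (2*X^2 + 2*X^3 + (-2)*X^4 + (-2)*X^5) * hi⟩
  · left
    exact ⟨1 + (-1)*X^1 + (-1)*X^2 + 1*X^3 + 1*X^6 + (-1)*X^7 + (-1)*X^8 + 1*X^9, by
      simp only [map_zero, map_one, map_ofNat, map_add, map_sub, map_mul]
      linear_combination ((-1)*X^1 + 1*X^2 + (-1)*X^4 + 1*X^5 + (-1)*X^7 + 1*X^8 + (-1)*X^10 + 1*X^11) * h3 + (0) * hi⟩
  · left
    exact ⟨1 + (-1)*X^1 + (-1)*X^1*C i^1 + 1*X^2 + 1*X^2*C i^1 + (-1)*X^3 + 1*X^3*C i^1 + (-1)*X^4*C i^1 + 1*X^5*C i^1 + (-1)*X^6 + (-1)*X^6*C i^1 + 1*X^7 + (-1)*X^7*C i^1 + (-1)*X^8 + 1*X^8*C i^1 + 1*X^9, by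
      simp only [map_zero, map_one, map_ofNat, map_add, map_sub, map_mul]
      linear_combination ((-1)*X^1 + 2*X^2 + 1*X^2*C i^1 + (-2)*X^3 + (-1)*X^3*C i^1 + 1*X^4 + (-1)*X^5 + 1*X^5*C i^1 + (-2)*X^6*C i^1 + 1*X^7 + 1*X^7*C i^1 + (-1)*X^8 + 2*X^9 + (-1)*X^9*C i^1 + (-2)*X^10 + 1*X^10*C i^1 + 1*X^11) * h3 + ((-1)*X^2 + 2*X^4 + (-2)*X^8 + 1*X^10) * hi⟩
  · left
    exact ⟨1 + (-1)*X^1 + 1*X^1*C i^1 + 1*X^2 + (-1)*X^2*C i^1 + (-1)*X^3 + (-1)*X^3*C i^1 + 1*X^4*C i^1 + (-1)*X^5*C i^1 + (-1)*X^6 + 1*X^6*C i^1 + 1*X^7 + 1*X^7*C i^1 + (-1)*X^8 + (-1)*X^8*C i^1 + 1*X^9, by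
      simp only [map_zero, map_one, map_ofNat, map_add, map_sub, map_mul]
      linear_combination ((-1)*X^1 + 1*X^1*C i^1 + 1*X^2 + (-1)*X^2*C i^1 + (-2)*X^3 + 1*X^3*C i^1 + 3*X^4 + (-1)*X^5 + (-2)*X^5*C i^1 + 2*X^6*C i^1 + 1*X^7 + (-2)*X^7*C i^1 + (-3)*X^8 + 2*X^9 + 1*X^9*C i^1 + (-1)*X^10 + (-1)*X^10*C i^1 + 1*X^11 + 1*X^11*C i^1) * h3 + (2*X^2 + (-4)*X^4 + 4*X^8 + (-2)*X^10) * hi⟩

/-- Cayley-Hamilton in dimension three. -/
theorem cayley {R : Type*} [CommRing R] (M : Matrix (Fin 3) (Fin 3) R) :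
    M ^ 3 - (M 0 0 + M 1 1 + M 2 2) • M ^ 2 +
      ((M 1 1 * M 2 2 - M 1 2 * M 2 1) + (M 0 0 * M 2 2 - M 0 2 * M 2 0) +
        (M 0 0 * M 1 1 - M 0 1 * M 1 0)) • M - M.det • (1 : Matrix (Fin 3) (Fin 3) R) = 0 := by
  rw [pow_succ M 2, sq, Matrix.det_fin_three]
  ext i j
  fin_cases i <;> fin_cases j <;>
    simp [Matrix.mul_apply, Fin.sum_univ_three, Matrix.sub_apply, Matrix.add_apply,
      Matrix.smul_apply, Matrix.one_apply] <;> ring

/-- The unitary condition. -/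
theorem unitary (g : SU 3 F9 3) (j k : Fin 3) :
    g.1.1 0 j * g.1.1 0 k ^ 3 + g.1.1 1 j * g.1.1 1 k ^ 3 + g.1.1 2 j * g.1.1 2 k ^ 3 =
      if j = k then 1 else 0 := by
  have h := (USide.mem_SU_iff g.1).1 g.2 (Pi.single j 1) (Pi.single k 1)
  rw [USide.hermForm_eq, USide.hermForm_eq] at h
  rw [Matrix.mulVec_single_one, Matrix.mulVec_single_one] at h
  simp only [Matrix.col_apply] at h
  rw [h]
  fin_cases j <;> fin_cases k <;> simp

theorem adj_eq (g : SU 3 F9 3) : g.1.1.adjugate = (g.1.1.map (fun x => x ^ 3))ᵀ := by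
  set M := g.1.1 with hM
  have h1 : Mᵀ * M.map (fun x => x ^ 3) = 1 := by
    refine Matrix.ext fun j k => ?_
    rw [Matrix.mul_apply, Fin.sum_univ_three, Matrix.one_apply]
    exact unitary g j k
  have h2 : (M.map (fun x => x ^ 3))ᵀ * M = 1 := by
    have := congrArg Matrix.transpose h1
    rwa [Matrix.transpose_mul, Matrix.transpose_transpose, Matrix.transpose_one] at this
  have h3 : M * (M.map (fun x => x ^ 3))ᵀ = 1 := mul_eq_one_comm.1 h2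
  have h4 : M.adjugate * M = 1 := by
    rw [Matrix.adjugate_mul, g.1.2, one_smul]
  calc M.adjugate = M.adjugate * (M * (M.map (fun x => x ^ 3))ᵀ) := by rw [h3, mul_one]
    _ = _ := by rw [← mul_assoc, h4, one_mul]

theorem charEq (g : SU 3 F9 3) : ∃ t : F9,
    g.1.1 ^ 3 - t • g.1.1 ^ 2 + (t ^ 3) • g.1.1 - 1 = 0 := by
  refine ⟨g.1.1 0 0 + g.1.1 1 1 + g.1.1 2 2, ?_⟩
  have h := cayley g.1.1
  rw [g.1.2, one_smul] at h
  have hadj := adj_eq g
  rw [Matrix.adjugate_fin_three] at hadj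
  have h0 := congrFun (congrFun hadj 0) 0
  have h1 := congrFun (congrFun hadj 1) 1
  have h2 := congrFun (congrFun hadj 2) 2
  simp at h0 h1 h2
  rw [USide.cube_add, USide.cube_add, ← h0, ← h1, ← h2]
  exact h

theorem form (t : F9) : ∃ a b : F9, (a = 0 ∨ a = 1 ∨ a = 2) ∧ (b = 0 ∨ b = 1 ∨ b = 2) ∧
    t = a + b * (⟨0, 1⟩ : F9) ∧ t ^ 3 = a - b * (⟨0, 1⟩ : F9) := by
  revert t
  decide +kernel

theorem pow_eq_one (g : SU 3 F9 3) : g.1.1 ^ 12 = 1 ∨ g.1.1 ^ 8 = 1 ∨ g.1.1 ^ 7 = 1 := by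
  obtain ⟨t, ht⟩ := charEq g
  obtain ⟨a, b, ha, hb, h1, h2⟩ := form t
  have h3 : (3 : F9[X]) = 0 := by
    rw [← map_ofNat (C : F9 →+* F9[X]) 3, show (3 : F9) = 0 from by decide +kernel, map_zero]
  have hi : (C (⟨0, 1⟩ : F9) : F9[X]) ^ 2 + 1 = 0 := by
    rw [← map_pow, ← map_one (C : F9 →+* F9[X]), ← map_add,
      show ((⟨0, 1⟩ : F9) ^ 2 + 1) = 0 from by decide +kernel, map_zero]
  have hz : Polynomial.aeval g.1.1 (X ^ 3 - C (a + b * (⟨0, 1⟩ : F9)) * X ^ 2 +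
      C (a - b * (⟨0, 1⟩ : F9)) * X - 1 : F9[X]) = 0 := by
    rw [← h1, ← h2]
    simp only [map_sub, map_add, map_mul, map_pow, aeval_X, aeval_C, map_one]
    rw [← map_pow, ← Algebra.smul_def, ← Algebra.smul_def]
    exact ht
  have key : ∀ N : ℕ, (X ^ 3 - C (a + b * (⟨0, 1⟩ : F9)) * X ^ 2 +
      C (a - b * (⟨0, 1⟩ : F9)) * X - 1 : F9[X]) ∣ X ^ N - 1 → g.1.1 ^ N = 1 := by
    rintro N ⟨q, hq⟩
    have h := congrArg (Polynomial.aeval g.1.1) hq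
    rw [map_mul, hz, zero_mul] at h
    simp only [map_sub, map_pow, aeval_X, map_one] at h
    exact sub_eq_zero.1 h
  rcases dvd_of_form (⟨0, 1⟩ : F9) h3 hi a b ha hb with h | h | h
  · exact Or.inl (key 12 h)
  · exact Or.inr (Or.inl (key 8 h))
  · exact Or.inr (Or.inr (key 7 h))

theorem range_subset (x : PSU 3 F9 3) : orderOf x ∈ ({1, 2, 3, 4, 6, 7, 8, 12} : Set ℕ) := by
  obtain ⟨g, rfl⟩ := QuotientGroup.mk_surjective x
  have key : ∀ N : ℕ, g.1.1 ^ N = 1 → orderOf (QuotientGroup.mk g : PSU 3 F9 3) ∣ N := by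
    intro N hN
    apply orderOf_dvd_of_pow_eq_one
    have h1 : g.1 ^ N = 1 := by
      apply Matrix.SpecialLinearGroup.ext
      intro i j
      rw [Matrix.SpecialLinearGroup.coe_pow, hN, Matrix.SpecialLinearGroup.coe_one]
    have : g ^ N = 1 := by
      apply Subtype.ext
      rw [Subgroup.coe_pow, h1, Subgroup.coe_one]
    rw [← QuotientGroup.mk_pow, this, QuotientGroup.mk_one]
  rcases pow_eq_one g with h | h | h
  · have hd := key _ h
    have hle := Nat.le_of_dvd (by norm_num) hd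
    generalize orderOf (QuotientGroup.mk g : PSU 3 F9 3) = k at hd hle ⊢
    interval_cases k <;> first | (exfalso; revert hd; norm_num; done) | simp
  · have hd := key _ h
    have hle := Nat.le_of_dvd (by norm_num) hd
    generalize orderOf (QuotientGroup.mk g : PSU 3 F9 3) = k at hd hle ⊢
    interval_cases k <;> first | (exfalso; revert hd; norm_num; done) | simp
  · have hd := key _ h
    rcases (Nat.dvd_prime (by norm_num : Nat.Prime 7)).1 hd with h | h <;> simp [h]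

/-- The two generators of `SU(3,3)`. -/
def a1 : SU 3 F9 3 := ⟨USide.k1, USide.k1_mem_SU⟩

def a2 : SU 3 F9 3 := ⟨USide.k2, USide.k2_mem_SU⟩

theorem not_central {g h : SU 3 F9 3} (hgh : g.1.1 * h.1.1 ≠ h.1.1 * g.1.1) :
    g ∉ Subgroup.center (SU 3 F9 3) := by
  intro hc
  apply hgh
  have := (Subgroup.mem_center_iff.1 hc h)
  exact (congrArg (fun x : SU 3 F9 3 => x.1.1) this).symm

theorem eq_one {g : SU 3 F9 3} (hg : g.1.1 = 1) : g = 1 :=
  Subtype.ext (Subtype.ext hg)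

theorem orderOf_mk (g : SU 3 F9 3) (n : ℕ) (hn : 0 < n) (h : g ^ n = 1)
    (h' : ∀ p : ℕ, p.Prime → p ∣ n → g ^ (n / p) ∉ Subgroup.center (SU 3 F9 3)) :
    orderOf (QuotientGroup.mk g : PSU 3 F9 3) = n := by
  apply orderOf_eq_of_pow_and_pow_div_prime hn
  · rw [← QuotientGroup.mk_pow, h, QuotientGroup.mk_one]
  · intro p hp hpn hc
    rw [← QuotientGroup.mk_pow, QuotientGroup.eq_one_iff] at hc
    exact h' p hp hpn hc

theorem m_eight : USide.m2 ^ 8 = 1 ∧ USide.m2 ^ 4 * USide.m1 ≠ USide.m1 * USide.m2 ^ 4 := by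
  decide +kernel

theorem m_twelve : (USide.m2 * USide.m1) ^ 12 = 1 ∧
    (USide.m2 * USide.m1) ^ 4 * USide.m1 ≠ USide.m1 * (USide.m2 * USide.m1) ^ 4 ∧
    (USide.m2 * USide.m1) ^ 6 * USide.m1 ≠ USide.m1 * (USide.m2 * USide.m1) ^ 6 := by
  decide +kernel

theorem m_seven : (USide.m2 * USide.m2 * USide.m2 * USide.m1) ^ 7 = 1 ∧
    (USide.m2 * USide.m2 * USide.m2 * USide.m1) * USide.m1 ≠
      USide.m1 * (USide.m2 * USide.m2 * USide.m2 * USide.m1) := by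
  decide +kernel

theorem coe_pow (g : SU 3 F9 3) (m : ℕ) : (g ^ m).1.1 = g.1.1 ^ m := by
  rw [Subgroup.coe_pow, Matrix.SpecialLinearGroup.coe_pow]

theorem orderOf_eight : orderOf (QuotientGroup.mk a2 : PSU 3 F9 3) = 8 := by
  apply orderOf_mk _ _ (by norm_num)
  · apply eq_one
    rw [coe_pow]
    exact m_eight.1
  · intro p hp hpd
    have h2 : p = 2 := by
      have : p ∣ 2 ^ 3 := hpd
      exact (Nat.prime_dvd_prime_iff_eq hp Nat.prime_two).1 (hp.dvd_of_dvd_pow this)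
    subst h2
    apply not_central (h := a1)
    rw [coe_pow]
    exact m_eight.2

theorem orderOf_twelve : orderOf (QuotientGroup.mk (a2 * a1) : PSU 3 F9 3) = 12 := by
  apply orderOf_mk _ _ (by norm_num)
  · apply eq_one
    rw [coe_pow]
    exact m_twelve.1
  · intro p hp hpd
    have h2 : p = 2 ∨ p = 3 := by
      have : p ∣ 2 ^ 2 * 3 := hpd
      rcases (Nat.Prime.dvd_mul hp).1 this with h | h
      · exact Or.inl ((Nat.prime_dvd_prime_iff_eq hp Nat.prime_two).1 (hp.dvd_of_dvd_pow h))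
      · exact Or.inr ((Nat.prime_dvd_prime_iff_eq hp Nat.prime_three).1 h)
    rcases h2 with rfl | rfl
    · apply not_central (h := a1)
      rw [coe_pow]
      exact m_twelve.2.2
    · apply not_central (h := a1)
      rw [coe_pow]
      exact m_twelve.2.1

theorem orderOf_seven : orderOf (QuotientGroup.mk (a2 * a2 * a2 * a1) : PSU 3 F9 3) = 7 := by
  apply orderOf_mk _ _ (by norm_num)
  · apply eq_one
    rw [coe_pow]
    exact m_seven.1
  · intro p hp hpd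
    rw [(Nat.prime_dvd_prime_iff_eq hp (by norm_num)).1 hpd]
    apply not_central (h := a1)
    rw [coe_pow, Nat.div_self (by norm_num), pow_one]
    exact m_seven.2

theorem range_F9 : Set.range (orderOf : PSU 3 F9 3 → ℕ) = {1, 2, 3, 4, 6, 7, 8, 12} := by
  ext m
  constructor
  · rintro ⟨x, rfl⟩
    exact range_subset x
  · intro hm
    have hpow : ∀ (x : PSU 3 F9 3) (k n : ℕ), k ≠ 0 → orderOf (x ^ k) = orderOf x / Nat.gcd (orderOf x) k :=
      fun x k _ hk => orderOf_pow' x hk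
    rcases hm with rfl | rfl | rfl | rfl | rfl | rfl | rfl | rfl
    · exact ⟨1, orderOf_one⟩
    · refine ⟨(QuotientGroup.mk (a2 * a1) : PSU 3 F9 3) ^ 6, ?_⟩
      rw [orderOf_pow' _ (by norm_num), orderOf_twelve]
      norm_num
    · refine ⟨(QuotientGroup.mk (a2 * a1) : PSU 3 F9 3) ^ 4, ?_⟩
      rw [orderOf_pow' _ (by norm_num), orderOf_twelve]
      norm_num
    · refine ⟨(QuotientGroup.mk (a2 * a1) : PSU 3 F9 3) ^ 3, ?_⟩
      rw [orderOf_pow' _ (by norm_num), orderOf_twelve]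
      norm_num
    · refine ⟨(QuotientGroup.mk (a2 * a1) : PSU 3 F9 3) ^ 2, ?_⟩
      rw [orderOf_pow' _ (by norm_num), orderOf_twelve]
      norm_num
    · exact ⟨_, orderOf_seven⟩
    · exact ⟨_, orderOf_eight⟩
    · exact ⟨_, orderOf_twelve⟩

/-- The element orders of `PSU(3,3)`. -/
theorem range_orderOf {F : Type*} [Field F] [Fintype F] (hF : Fintype.card F = 9) :
    Set.range (orderOf : PSU 3 F 3 → ℕ) = {1, 2, 3, 4, 6, 7, 8, 12} := by
  obtain ⟨e⟩ := SporadicStructure.PsuMatch.psu_iso_of_card (F := F) (K := F9) (by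
    rw [hF]; rfl) 3 3
  rw [← range_F9]
  ext m
  constructor
  · rintro ⟨x, rfl⟩
    exact ⟨e x, orderOf_injective e.toMonoidHom e.injective x⟩
  · rintro ⟨x, rfl⟩
    exact ⟨e.symm x, orderOf_injective e.symm.toMonoidHom e.symm.injective x⟩

end Cfsg.Agent.H367.SpecU33
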