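import Cfsg.Agent.OrdDiv.Main
import Cfsg.Agent.H357.Locate
import Cfsg.Agent.H367.ClsGrp

/-!
# Small degrees: the simple section (helper367)

`check` : a computable certificate; `exists_sec` : the consequence.
-/

set_option autoImplicit false

namespace Cfsg.Agent.H367.ClsSmall

open Cfsg Cfsg.Agent.OrdDiv Cfsg.Agent.H357.Reduce Cfsg.Agent.H363.Frat Cfsg.Agent.H363.AltPrimes
open Cfsg.Agent.H367.ClsGrp Subgroup

universe u

/-! ### folds -/

theorem dvd_foldr_gcd {z : ℕ} : ∀ {L : List ℕ}, (∀ c ∈ L, z ∣ c) → z ∣ L.foldr Nat.gcd 0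
  | [], _ => dvd_zero z
  | c :: L, h => Nat.dvd_gcd (h c List.mem_cons_self) (dvd_foldr_gcd fun d hd => h d (List.mem_cons_of_mem _ hd))

theorem foldr_lcm_dvd {z : ℕ} : ∀ {L : List ℕ}, (∀ c ∈ L, c ∣ z) → L.foldr Nat.lcm 1 ∣ z
  | [], _ => one_dvd z
  | c :: L, h => Nat.lcm_dvd (h c List.mem_cons_self) (foldr_lcm_dvd fun d hd => h d (List.mem_cons_of_mem _ hd))

theorem dvd_foldr_lcm {c : ℕ} : ∀ {L : List ℕ}, c ∈ L → c ∣ L.foldr Nat.lcm 1
  | [], h => absurd h List.not_mem_nil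
  | d :: L, h => by
    rcases List.mem_cons.1 h with h | h
    · subst h
      exact Nat.dvd_lcm_left _ _
    · exact (dvd_foldr_lcm h).trans (Nat.dvd_lcm_right _ _)

/-! ### the certificate -/

def dval (L : List ℕ) (p c0 : ℕ) : ℕ :=
  (L.filter fun c => c % p == 0 && c0 % c == 0 && !(c == c0)).foldr Nat.lcm 1

def gval (L : List ℕ) (p : ℕ) : ℕ := (L.filter fun c => c % p == 0).foldr Nat.gcd 0

def typeOk (L : List ℕ) (p N : ℕ) (B : List ℕ) : Bool := L.all fun c0 =>
  !(c0 % p == 0) || c0 == N || B.contains c0 || !((dval L p c0 * gval L p) % c0 == 0)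

/-- `(s, v, c)` : `s ^ v ∥ N`, `s` not adjacent to `p`, ... -/
def condOk (N p : ℕ) (B : List ℕ) (x : ℕ × ℕ × ℕ) : Bool :=
  isPrimeB x.1 && !(x.1 == p) && N % x.1 ^ x.2.1 == 0 && !(N % x.1 ^ (x.2.1 + 1) == 0) &&
    ((List.range (if x.1 == 2 then x.2.1 - 1 else x.2.1)).all fun a => !((x.1 ^ (a + 1) - 1) % p == 0)) &&
    !((p - 1) % x.1 ^ (x.2.2 + 1) == 0) && B.all fun b => !(b % x.1 == 0)

def check (L : List ℕ) (N p : ℕ) (B : List ℕ) (l : List (ℕ × ℕ)) (conds : List (ℕ × ℕ × ℕ)) (out : List Grp) : Bool :=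
  (L.foldr Nat.gcd 0 == 1) && typeOk L p N B && (N % p == 0) && !(N % p ^ 2 == 0) && isPrimeB p && valid l N &&
    conds.all (condOk N p B) && (conds.any fun x => Nat.blt x.2.2 x.2.1 && !(x.1 == 2)) &&
    ((cands l N).all fun g => ordN g % 2 == 0) &&
    (cands l N).all fun g => !(ordN g % p == 0 && conds.all fun x => ordN g % x.1 ^ (x.2.1 - x.2.2) == 0) ||
      out.contains g

section

variable {G : Type*} [Group G] [Finite G]

theorem center_eq_bot {L : List ℕ} (h : CSet G L) (hg : L.foldr Nat.gcd 0 = 1) : center G = ⊥ := by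
  apply Subgroup.card_eq_one.1
  rw [← Nat.dvd_one, ← hg]
  apply dvd_foldr_gcd
  intro c hc
  obtain ⟨g, rfl⟩ := h.ex c hc
  exact center_dvd g

theorem co_mem {L : List ℕ} (h : CSet G L) (hg : L.foldr Nat.gcd 0 = 1) {p : ℕ} (hp : p.Prime)
    (hp2 : ¬ p ^ 2 ∣ Nat.card G) {B : List ℕ} (hB : typeOk L p (Nat.card G) B = true) {x : G} (hx : orderOf x = p) :
    co x ∈ B := by
  have : Fact p.Prime := ⟨hp⟩
  unfold typeOk at hB
  rw [List.all_eq_true] at hB
  have h1 := hB _ (h.mem x)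
  simp only [Bool.or_eq_true, Bool.not_eq_true', beq_eq_false_iff_ne, beq_iff_eq, List.contains_iff_mem] at h1
  have hpx : p ∣ co x := by
    have h2 : x ∈ centralizer ({x} : Set G) := mem_cent.2 rfl
    have h3 : orderOf (⟨x, h2⟩ : centralizer ({x} : Set G)) = p := by
      rw [← Subgroup.orderOf_coe]
      exact hx
    rw [← h3]
    exact orderOf_dvd_natCard _
  rcases h1 with ((h1 | h1) | h1) | h1
  · exact absurd (Nat.mod_eq_zero_of_dvd hpx) h1
  · exfalso
    have h2 : centralizer ({x} : Set G) = ⊤ := Subgroup.eq_top_of_card_eq _ h1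
    have h3 : x ∈ center G := by
      rw [mem_center_iff]
      intro g
      have h3 : g ∈ centralizer ({x} : Set G) := by rw [h2]; exact mem_top g
      exact mem_cent.1 h3
    rw [center_eq_bot h hg, mem_bot] at h3
    rw [h3, orderOf_one] at hx
    exact hp.one_lt.ne hx
  · exact h1
  · exfalso
    apply h1
    apply Nat.mod_eq_zero_of_dvd
    apply type_lemma h hp2 hx (D := dval L p (co x)) (g0 := gval L p)
    · apply foldr_lcm_dvd
      intro c hc
      rw [List.mem_filter] at hc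
      simp only [Bool.and_eq_true, beq_iff_eq] at hc
      exact Nat.dvd_of_mod_eq_zero hc.2.1.2
    · intro c hc hpc hcx hne
      apply dvd_foldr_lcm
      rw [List.mem_filter]
      refine ⟨hc, ?_⟩
      simp only [Bool.and_eq_true, beq_iff_eq, Bool.not_eq_true', beq_eq_false_iff_ne]
      exact ⟨⟨Nat.mod_eq_zero_of_dvd hpc, Nat.mod_eq_zero_of_dvd hcx⟩, hne⟩
    · intro z hz
      apply dvd_foldr_gcd
      intro c hc
      rw [List.mem_filter] at hc
      simp only [beq_iff_eq] at hc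
      exact hz c hc.1 (Nat.dvd_of_mod_eq_zero hc.2)

theorem nonAdj_of {p s : ℕ} (hp : p.Prime) (hs : s.Prime) {B : List ℕ} (hB : ∀ x : G, orderOf x = p → co x ∈ B)
    (hsB : ∀ b ∈ B, ¬ s ∣ b) : NonAdj G p s := by
  intro g hg
  have h1 : orderOf (g ^ s) = p := by
    rw [orderOf_pow_of_dvd hs.ne_zero ⟨p, by rw [hg, mul_comm]⟩, hg]
    exact Nat.mul_div_cancel p hs.pos
  apply hsB _ (hB _ h1)
  have h2 : g ∈ centralizer ({g ^ s} : Set G) := mem_cent.2 ((Commute.refl g).pow_right s)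
  have h3 : s ∣ orderOf (⟨g, h2⟩ : centralizer ({g ^ s} : Set G)) := by
    rw [← Subgroup.orderOf_coe]
    change s ∣ orderOf g
    rw [hg]
    exact dvd_mul_left s p
  exact h3.trans (orderOf_dvd_natCard _)

end

/-- **The simple section.** -/
theorem exists_sec (T : OrderTable.{u}) {G : Type u} [Group G] [Finite G]
    (hcl : ∀ (S : Type u) [Group S] [Finite S] [IsSimpleGroup S], IsKnownSimple' S)
    {L : List ℕ} (h : CSet G L) {p : ℕ} {B : List ℕ} {l : List (ℕ × ℕ)} {conds : List (ℕ × ℕ × ℕ)} {out : List Grp}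
    (hc : check L (Nat.card G) p B l conds out = true) :
    center G = ⊥ ∧ p.Prime ∧ (∀ x : G, orderOf x = p → co x ∈ B) ∧
      ∃ (N : Subgroup G) (_ : N.Normal) (M : Subgroup (G ⧸ N)), Sec G p N M ∧ (¬ ∀ a b : M, a * b = b * a) ∧
        ∃ g ∈ out, Real g M ∧ Nat.card M = ordN g := by
  unfold check at hc
  simp only [Bool.and_eq_true, beq_iff_eq] at hc
  obtain ⟨⟨⟨⟨⟨⟨⟨⟨⟨hgcd, htype⟩, hpG⟩, hp2⟩, hpp⟩, hv⟩, hconds⟩, hany⟩, heven⟩, hout⟩ := hc
  have hp := prime_of hpp
  have hpG := Nat.dvd_of_mod_eq_zero hpG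
  have hp2 : ¬ p ^ 2 ∣ Nat.card G := by
    intro h
    rw [Nat.mod_eq_zero_of_dvd h] at hp2
    exact absurd hp2 (by decide)
  have hB : ∀ x : G, orderOf x = p → co x ∈ B := fun x hx => co_mem h hgcd hp hp2 htype hx
  refine ⟨center_eq_bot h hgcd, hp, hB, ?_⟩
  obtain ⟨N, hN, M, D⟩ := exists_section hp hpG hp2
  refine ⟨N, hN, M, D, ?_⟩
  have hMs := D.simple
  rw [List.all_eq_true] at hconds heven hout
  -- the conditions
  have key : ∀ x ∈ conds, (x.1 = 2 → 2 ∣ Nat.card M) →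
      x.1.Prime ∧ (Nat.card G).factorization x.1 = x.2.1 ∧ x.1 ≠ p ∧
        x.2.1 ≤ (Nat.card M).factorization x.1 + x.2.2 := by
    intro x hx h2M
    have hx1 := hconds x hx
    unfold condOk at hx1
    simp only [Bool.and_eq_true, beq_iff_eq, Bool.not_eq_true', beq_eq_false_iff_ne, List.all_eq_true] at hx1
    obtain ⟨⟨⟨⟨⟨⟨h1, h2⟩, h3⟩, h4⟩, h5⟩, h6⟩, h7⟩ := hx1
    have hs := prime_of h1
    have hna : NonAdj G p x.1 := nonAdj_of hp hs hB fun b hb hd => h7 b hb (Nat.mod_eq_zero_of_dvd hd)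
    have hf : (Nat.card G).factorization x.1 = x.2.1 := by
      have h8 := (hs.pow_dvd_iff_le_factorization Nat.card_pos.ne').1 (Nat.dvd_of_mod_eq_zero h3)
      have h9 : ¬ x.2.1 + 1 ≤ (Nat.card G).factorization x.1 := fun h =>
        h4 (Nat.mod_eq_zero_of_dvd ((hs.pow_dvd_iff_le_factorization Nat.card_pos.ne').2 h))
      omega
    have hno : ∀ a, 1 ≤ a → a ≤ (if x.1 = 2 then x.2.1 - 1 else x.2.1) → ¬ p ∣ x.1 ^ a - 1 := by
      intro a ha1 ha2 hd
      have := h5 (a - 1) (List.mem_range.2 (by split_ifs at ha2 ⊢ <;> omega))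
      rw [Nat.sub_add_cancel ha1] at this
      exact this (Nat.mod_eq_zero_of_dvd hd)
    refine ⟨hs, hf, h2, ?_⟩
    have h8 := fact_add N M x.1
    have h9 : (Nat.card N).factorization x.1 = 0 := by
      by_contra h0
      have h10 := D.dvd_pow_sub_one hp hs (Ne.symm h2) hna
      refine hno _ (by omega) ?_ h10
      split_ifs with h11
      · have h12 : 1 ≤ (Nat.card M).factorization x.1 := by
          rw [h11]
          exact (Nat.prime_two.dvd_iff_one_le_factorization Nat.card_pos.ne').1 (h2M h11)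
        omega
      · omega
    have h10 : M.index.factorization x.1 ≤ x.2.2 := by
      by_contra hlt
      have := D.pow_dvd_sub_one hp hs (Ne.symm h2) hna
      exact h6 (Nat.mod_eq_zero_of_dvd ((pow_dvd_pow x.1 (by omega)).trans this))
    omega
  -- `M` is not abelian
  have hnab : ¬ ∀ a b : M, a * b = b * a := by
    intro hab
    rw [List.any_eq_true] at hany
    obtain ⟨x, hx, hx1⟩ := hany
    simp only [Bool.and_eq_true, Nat.blt_eq, Bool.not_eq_true', beq_eq_false_iff_ne] at hx1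
    obtain ⟨hs, hf, hne, hle⟩ := key x hx fun h => absurd h hx1.2
    have : Std.Commutative (α := M) (· * ·) := ⟨hab⟩
    have hpM : Nat.card M = p := by
      letI : CommGroup M := { (inferInstance : Group M) with mul_comm := hab }
      have hprime : (Nat.card M).Prime := IsSimpleGroup.prime_card
      exact ((Nat.prime_dvd_prime_iff_eq hp hprime).1 D.dvdM).symm
    rw [hpM, hp.factorization, Finsupp.single_eq_of_ne hne] at hle
    omega
  refine ⟨hnab, ?_⟩
  have hdM : Nat.card M ∣ Nat.card G := card_dvd_card N M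
  obtain ⟨g, hg, hr, ho⟩ := exists_good T (hcl M) hnab hv hdM
  have h2M : 2 ∣ Nat.card M := by
    rw [ho]
    exact Nat.dvd_of_mod_eq_zero (by simpa using heven g hg)
  refine ⟨g, ?_, hr, ho⟩
  have h1 := hout g hg
  rw [Bool.or_eq_true] at h1
  rcases h1 with h1 | h1
  · exfalso
    rw [Bool.not_eq_true', ← Bool.not_eq_true] at h1
    apply h1
    rw [Bool.and_eq_true, beq_iff_eq, List.all_eq_true, ← ho]
    refine ⟨Nat.mod_eq_zero_of_dvd D.dvdM, fun x hx => ?_⟩
    obtain ⟨hs, hf, hne, hle⟩ := key x hx fun _ => h2M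
    rw [beq_iff_eq]
    apply Nat.mod_eq_zero_of_dvd
    rw [hs.pow_dvd_iff_le_factorization Nat.card_pos.ne']
    omega
  · exact List.contains_iff_mem.1 h1

end Cfsg.Agent.H367.ClsSmall
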