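import Mathlib
import Cfsg.Agent.H367.ListGrp2
import Cfsg.Agent.H367.Frob
import Cfsg.Agent.S0061

/-!
# The binary octahedral group in `GL(4,13)`
-/

set_option autoImplicit false

namespace Cfsg.Agent.H367.Oct13

open Matrix

abbrev M := Matrix (Fin 4) (Fin 4) (ZMod 13)

def t : Mˣ where
  val := !![10, 10, 0, 0; 11, 2, 0, 0; 0, 0, 10, 10; 0, 0, 11, 2]
  inv := !![2, 3, 0, 0; 2, 10, 0, 0; 0, 0, 2, 3; 0, 0, 2, 10]
  val_inv := by decide +kernel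
  inv_val := by decide +kernel

def s : Mˣ where
  val := !![0, 0, 6, 0; 0, 0, 0, 9; 3, 0, 0, 0; 0, 11, 0, 0]
  inv := !![0, 0, 9, 0; 0, 0, 0, 6; 11, 0, 0, 0; 0, 3, 0, 0]
  val_inv := by decide +kernel
  inv_val := by decide +kernel

/-- The elements of the group generated by the two matrices. -/
def L : List M :=
  [ !![1, 0, 0, 0; 0, 1, 0, 0; 0, 0, 1, 0; 0, 0, 0, 1],
    !![10, 10, 0, 0; 11, 2, 0, 0; 0, 0, 10, 10; 0, 0, 11, 2],
    !![0, 0, 6, 0; 0, 0, 0, 9; 3, 0, 0, 0; 0, 11, 0, 0],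
    !![2, 3, 0, 0; 2, 10, 0, 0; 0, 0, 2, 3; 0, 0, 2, 10],
    !![0, 0, 8, 8; 0, 0, 8, 5; 4, 4, 0, 0; 4, 9, 0, 0],
    !![0, 0, 8, 12; 0, 0, 1, 5; 4, 6, 0, 0; 7, 9, 0, 0],
    !![5, 0, 0, 0; 0, 8, 0, 0; 0, 0, 5, 0; 0, 0, 0, 8],
    !![0, 0, 12, 5; 0, 0, 5, 12; 6, 9, 0, 0; 9, 6, 0, 0],
    !![0, 0, 4, 0; 0, 0, 0, 7; 2, 0, 0, 0; 0, 10, 0, 0],
    !![11, 11, 0, 0; 10, 3, 0, 0; 0, 0, 11, 11; 0, 0, 10, 3],
    !![0, 0, 12, 1; 0, 0, 12, 12; 6, 7, 0, 0; 6, 6, 0, 0],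
    !![11, 10, 0, 0; 11, 3, 0, 0; 0, 0, 11, 10; 0, 0, 11, 3],
    !![11, 2, 0, 0; 3, 3, 0, 0; 0, 0, 11, 2; 0, 0, 3, 3],
    !![0, 0, 1, 1; 0, 0, 12, 1; 7, 7, 0, 0; 6, 7, 0, 0],
    !![10, 2, 0, 0; 3, 2, 0, 0; 0, 0, 10, 2; 0, 0, 3, 2],
    !![0, 0, 1, 5; 0, 0, 5, 1; 7, 9, 0, 0; 9, 7, 0, 0],
    !![12, 0, 0, 0; 0, 12, 0, 0; 0, 0, 12, 0; 0, 0, 0, 12],
    !![2, 10, 0, 0; 11, 10, 0, 0; 0, 0, 2, 10; 0, 0, 11, 10],
    !![10, 3, 0, 0; 2, 2, 0, 0; 0, 0, 10, 3; 0, 0, 2, 2],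
    !![0, 0, 1, 8; 0, 0, 8, 1; 7, 4, 0, 0; 4, 7, 0, 0],
    !![10, 11, 0, 0; 10, 2, 0, 0; 0, 0, 10, 11; 0, 0, 10, 2],
    !![0, 0, 1, 12; 0, 0, 1, 1; 7, 6, 0, 0; 7, 7, 0, 0],
    !![0, 0, 0, 7; 0, 0, 9, 0; 0, 10, 0, 0; 11, 0, 0, 0],
    !![3, 3, 0, 0; 2, 11, 0, 0; 0, 0, 3, 3; 0, 0, 2, 11],
    !![0, 1, 0, 0; 12, 0, 0, 0; 0, 0, 0, 1; 0, 0, 12, 0],
    !![3, 2, 0, 0; 3, 11, 0, 0; 0, 0, 3, 2; 0, 0, 3, 11],
    !![0, 0, 7, 0; 0, 0, 0, 4; 10, 0, 0, 0; 0, 2, 0, 0],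
    !![0, 5, 0, 0; 5, 0, 0, 0; 0, 0, 0, 5; 0, 0, 5, 0],
    !![0, 0, 12, 8; 0, 0, 8, 12; 6, 4, 0, 0; 4, 6, 0, 0],
    !![3, 11, 0, 0; 10, 11, 0, 0; 0, 0, 3, 11; 0, 0, 10, 11],
    !![0, 0, 8, 5; 0, 0, 5, 5; 4, 9, 0, 0; 9, 9, 0, 0],
    !![0, 0, 12, 12; 0, 0, 1, 12; 6, 6, 0, 0; 7, 6, 0, 0],
    !![0, 0, 8, 1; 0, 0, 12, 5; 4, 7, 0, 0; 6, 9, 0, 0],
    !![3, 10, 0, 0; 11, 11, 0, 0; 0, 0, 3, 10; 0, 0, 11, 11],
    !![0, 8, 0, 0; 8, 0, 0, 0; 0, 0, 0, 8; 0, 0, 8, 0],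
    !![0, 0, 5, 5; 0, 0, 5, 8; 9, 9, 0, 0; 9, 4, 0, 0],
    !![0, 0, 0, 6; 0, 0, 4, 0; 0, 3, 0, 0; 2, 0, 0, 0],
    !![8, 0, 0, 0; 0, 5, 0, 0; 0, 0, 8, 0; 0, 0, 0, 5],
    !![0, 0, 5, 12; 0, 0, 1, 8; 9, 6, 0, 0; 7, 4, 0, 0],
    !![0, 0, 5, 1; 0, 0, 12, 8; 9, 7, 0, 0; 6, 4, 0, 0],
    !![0, 0, 0, 4; 0, 0, 6, 0; 0, 2, 0, 0; 3, 0, 0, 0],
    !![0, 12, 0, 0; 1, 0, 0, 0; 0, 0, 0, 12; 0, 0, 1, 0],
    !![0, 0, 0, 9; 0, 0, 7, 0; 0, 11, 0, 0; 10, 0, 0, 0],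
    !![0, 0, 5, 8; 0, 0, 8, 8; 9, 4, 0, 0; 4, 4, 0, 0],
    !![11, 3, 0, 0; 2, 3, 0, 0; 0, 0, 11, 3; 0, 0, 2, 3],
    !![2, 2, 0, 0; 3, 10, 0, 0; 0, 0, 2, 2; 0, 0, 3, 10],
    !![0, 0, 9, 0; 0, 0, 0, 6; 11, 0, 0, 0; 0, 3, 0, 0],
    !![2, 11, 0, 0; 10, 10, 0, 0; 0, 0, 2, 11; 0, 0, 10, 10] ]

/-- Indices of the squares. -/
def sq : List ℕ := [0, 3, 6, 1, 16, 16, 16, 34, 37, 20, 41, 1, 14, 24, 47, 27, 0, 18, 17, 34, 45, 41, 16, 3, 16, 45, 6, 16, 27, 47, 16, 24, 16, 17, 16, 16, 16, 16, 16, 16, 16, 16, 16, 16, 18, 20, 37, 14]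

set_option maxRecDepth 100000 in
theorem t_mul : L.map (fun x => (t : M) * x) =
    ([1, 3, 5, 0, 8, 10, 12, 13, 15, 17, 2, 16, 20, 22, 24, 4, 23, 27, 29, 31, 6, 26, 7, 11, 33, 37, 39, 9, 35, 41, 42, 36, 43, 14, 45, 46, 19, 47, 30, 21, 32, 18, 38, 40, 34, 44, 28, 25] : List ℕ).map (fun i => L.getD i 0) := by
  decide +kernel

set_option maxRecDepth 100000 in
theorem s_mul : L.map (fun x => (s : M) * x) =
    ([2, 4, 6, 7, 9, 11, 8, 14, 16, 13, 18, 19, 21, 23, 5, 25, 26, 28, 30, 29, 32, 33, 34, 35, 36, 38, 37, 40, 20, 39, 12, 1, 44, 43, 42, 45, 27, 46, 17, 3, 41, 22, 24, 47, 15, 31, 0, 10] : List ℕ).map (fun i => L.getD i 0) := by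
  decide +kernel

set_option maxRecDepth 100000 in
theorem sq_mul : L.map (fun x => x * x) = sq.map (fun i => L.getD i 0) := by
  decide +kernel

set_option maxRecDepth 100000 in
theorem cases : ∀ i : Fin 48, i.1 = 0 ∨ i.1 = 16 ∨ sq.getD i.1 0 = 16 ∨ sq.getD (sq.getD i.1 0) 0 = 16 ∨
    L.getD i.1 0 * L.getD i.1 0 + L.getD i.1 0 + 1 = 0 ∨
    L.getD i.1 0 * L.getD i.1 0 - L.getD i.1 0 + 1 = 0 := by
  decide +kernel

theorem L_zero : L.getD 0 0 = 1 := by decide +kernel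

theorem L_neg : L.getD 16 0 = -1 := by decide +kernel

theorem L_len : L.length = 48 := rfl

set_option maxRecDepth 100000 in
theorem L_nodup : L.Nodup := by decide +kernel

/-- The group. -/
def K : Subgroup Mˣ := Subgroup.closure ({t, s} : Set Mˣ)

theorem mem_L : ∀ k ∈ K, (k : M) ∈ L := by
  apply ListGrp.mem_of_mem_closure
  · rw [← L_zero, List.getD_eq_getElem _ _ (by rw [L_len]; norm_num)]
    exact List.getElem_mem _
  · intro g hg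
    rcases hg with rfl | hg
    · exact ListGrp.mem_of_map_eq L _ _ t_mul (by rw [L_len]; decide)
    · rw [Set.mem_singleton_iff] at hg
      rw [hg]
      exact ListGrp.mem_of_map_eq L _ _ s_mul (by rw [L_len]; decide)

theorem bfs : ∀ i : Fin 48, i.1 = 0 ∨
    (∃ j : Fin 48, j.1 < i.1 ∧ ([1, 3, 5, 0, 8, 10, 12, 13, 15, 17, 2, 16, 20, 22, 24, 4, 23, 27, 29, 31, 6, 26, 7, 11, 33, 37, 39, 9, 35, 41, 42, 36, 43, 14, 45, 46, 19, 47, 30, 21, 32, 18, 38, 40, 34, 44, 28, 25] : List ℕ).getD j.1 0 = i.1) ∨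
    (∃ j : Fin 48, j.1 < i.1 ∧ ([2, 4, 6, 7, 9, 11, 8, 14, 16, 13, 18, 19, 21, 23, 5, 25, 26, 28, 30, 29, 32, 33, 34, 35, 36, 38, 37, 40, 20, 39, 12, 1, 44, 43, 42, 45, 27, 46, 17, 3, 41, 22, 24, 47, 15, 31, 0, 10] : List ℕ).getD j.1 0 = i.1) := by
  decide +kernel

theorem exists_L : ∀ x ∈ L, ∃ k ∈ K, (k : M) = x := by
  apply ListGrp.exists_of_mem
  intro i
  have hi : i.1 < 48 := i.2
  have hget : ∀ j : Fin L.length, L.get j = L.getD j.1 0 := fun j => by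
    rw [List.getD_eq_getElem _ _ j.2]
    rfl
  rcases bfs ⟨i.1, hi⟩ with h | ⟨j, hj, hij⟩ | ⟨j, hj, hij⟩
  · left
    rw [hget, show i.1 = 0 from h, L_zero]
  · right
    refine ⟨t, Or.inl rfl, ⟨j.1, j.2⟩, hj, ?_⟩
    have := ListGrp.getD_of_map_eq L _ _ t_mul j.1 j.2
    rw [hget, hget, this, hij]
  · right
    refine ⟨s, Or.inr rfl, ⟨j.1, j.2⟩, hj, ?_⟩
    have := ListGrp.getD_of_map_eq L _ _ s_mul j.1 j.2
    rw [hget, hget, this, hij]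

theorem card_K : Nat.card K = 48 :=
  ListGrp.card_closure _ L L_nodup mem_L exists_L

instance finite_K : Finite K := Nat.finite_of_card_ne_zero (by rw [card_K]; norm_num)

theorem solvable_K : Group.IsSolvable K :=
  S0061.solvable_aux 2 3 4 (by norm_num) (by norm_num) 48 card_K (by norm_num)

/-- Every element of the group other than `1` satisfies one of six equations. -/
theorem cases_K : ∀ k ∈ K, (k : M) = 1 ∨ ((k : M) = -1 ∨ (k : M) * k = -1 ∨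
    ((k : M) * k) * ((k : M) * k) = -1 ∨ (k : M) * k + k + 1 = 0 ∨ (k : M) * k - k + 1 = 0) := by
  intro k hk
  obtain ⟨i, hi⟩ := List.get_of_mem (mem_L k hk)
  have hget : ∀ j : Fin L.length, L.get j = L.getD j.1 0 := fun j => by
    rw [List.getD_eq_getElem _ _ j.2]
    rfl
  have hsq : ∀ j : ℕ, j < L.length → L.getD j 0 * L.getD j 0 = L.getD (sq.getD j 0) 0 :=
    fun j hj => ListGrp.getD_of_map_eq L _ _ sq_mul j hj
  have hlt : ∀ j : ℕ, sq.getD j 0 < L.length := by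
    intro j
    by_cases hj : j < sq.length
    · rw [List.getD_eq_getElem _ _ hj]
      have : ∀ x ∈ sq, x < 48 := by decide
      exact this _ (List.getElem_mem _)
    · rw [List.getD_eq_default _ _ (not_lt.1 hj), L_len]
      norm_num
  rw [hget] at hi
  have h1 := hsq i.1 i.2
  have h2 := hsq _ (hlt i.1)
  rw [← hi]
  rcases cases ⟨i.1, i.2⟩ with h | h | h | h | h | h
  · left
    rw [show i.1 = 0 from h, L_zero]
  · right; left
    rw [show i.1 = 16 from h, L_neg]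
  · right; right; left
    rw [h1, h, L_neg]
  · right; right; right; left
    rw [h1, h2, h, L_neg]
  · right; right; right; right; left
    exact h
  · right; right; right; right; right
    exact h

theorem fix_K (k : K) (hk : k ≠ 1) (v : Multiplicative (Fin 4 → ZMod 13))
    (hv : Frob.act K k v = v) : v = 1 := by
  have h := (cases_K k.1 k.2).resolve_left (fun h => hk (Subtype.ext (Units.ext h)))
  have h2 : IsUnit (2 : ZMod 13) := ⟨⟨2, 7, by decide, by decide⟩, rfl⟩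
  have h3 : IsUnit (3 : ZMod 13) := ⟨⟨3, 9, by decide, by decide⟩, rfl⟩
  have h4 := ListGrp.fix_eq_zero h2 h3 (x := (k.1 : M)) (by tauto) (Multiplicative.toAdd v)
    (by
      have := congrArg Multiplicative.toAdd hv
      exact this)
  exact h4

theorem val_pow (k : K) (m : ℕ) : (((k ^ m : K) : Mˣ) : M) = ((k : Mˣ) : M) ^ m := by
  rw [Subgroup.coe_pow, Units.val_pow_eq_pow_val]

theorem pow_eq_one_iff (k : K) (m : ℕ) : k ^ m = 1 ↔ ((k : Mˣ) : M) ^ m = 1 := by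
  rw [← val_pow]
  constructor
  · intro h
    rw [h]
    rfl
  · intro h
    exact Subtype.ext (Units.ext h)

/-- The element `s` of order `8`. -/
def sK : K := ⟨s, Subgroup.subset_closure (Or.inr rfl)⟩

/-- The element `t` of order `3`. -/
def tK : K := ⟨t, Subgroup.subset_closure (Or.inl rfl)⟩

theorem s_four : (s : M) ^ 4 = -1 := by decide +kernel

theorem t_three : (t : M) ^ 3 = 1 := by decide +kernel

theorem t_ne : (t : M) ≠ 1 := by decide +kernel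

theorem orderOf_sK : orderOf sK = 8 := by
  have h1 : sK ^ 8 = 1 := by
    rw [pow_eq_one_iff]
    have : (s : M) ^ 8 = (s : M) ^ 4 * (s : M) ^ 4 := by rw [← pow_add]
    change (s : M) ^ 8 = 1
    rw [this, s_four]
    norm_num
  have h2 : ¬ sK ^ 4 = 1 := by
    rw [pow_eq_one_iff]
    change ¬ (s : M) ^ 4 = 1
    rw [s_four]
    decide +kernel
  exact orderOf_eq_prime_pow (p := 2) (n := 2) h2 h1

theorem orderOf_tK : orderOf tK = 3 := by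
  apply orderOf_eq_prime
  · rw [pow_eq_one_iff]
    exact t_three
  · intro h
    apply t_ne
    have := congrArg (fun k : K => ((k : Mˣ) : M)) h
    exact this

theorem range_K : Set.range (orderOf : K → ℕ) = {1, 2, 3, 4, 6, 8} := by
  ext m
  constructor
  · rintro ⟨k, rfl⟩
    have h : k ^ 8 = 1 ∨ k ^ 6 = 1 := by
      rw [pow_eq_one_iff, pow_eq_one_iff]
      rcases cases_K k.1 k.2 with h | h | h | h | h | h
      · exact Or.inl (ListGrp.pow_eight (Or.inl h))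
      · exact Or.inl (ListGrp.pow_eight (Or.inr (Or.inl h)))
      · exact Or.inl (ListGrp.pow_eight (Or.inr (Or.inr (Or.inl h))))
      · exact Or.inl (ListGrp.pow_eight (Or.inr (Or.inr (Or.inr h))))
      · exact Or.inr (ListGrp.pow_six (Or.inl h))
      · exact Or.inr (ListGrp.pow_six (Or.inr h))
    rcases h with h | h
    · have hd := orderOf_dvd_of_pow_eq_one h
      have hle := Nat.le_of_dvd (by norm_num) hd
      interval_cases hk : orderOf k <;> simp_all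
    · have hd := orderOf_dvd_of_pow_eq_one h
      have hle := Nat.le_of_dvd (by norm_num) hd
      interval_cases hk : orderOf k <;> simp_all
  · intro hm
    have hs4 : orderOf (sK ^ 4) = 2 := by
      rw [orderOf_pow' _ (by norm_num), orderOf_sK]
      norm_num
    have hcomm : Commute (sK ^ 4) tK := by
      apply Subtype.ext
      apply Units.ext
      change (((sK ^ 4 : K) : Mˣ) : M) * (t : M) = (t : M) * (((sK ^ 4 : K) : Mˣ) : M)
      rw [val_pow]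
      change (s : M) ^ 4 * (t : M) = (t : M) * (s : M) ^ 4
      rw [s_four]
      simp
    rcases hm with rfl | rfl | rfl | rfl | rfl | rfl
    · exact ⟨1, orderOf_one⟩
    · exact ⟨sK ^ 4, hs4⟩
    · exact ⟨tK, orderOf_tK⟩
    · refine ⟨sK ^ 2, ?_⟩
      rw [orderOf_pow' _ (by norm_num), orderOf_sK]
      norm_num
    · refine ⟨sK ^ 4 * tK, ?_⟩
      rw [hcomm.orderOf_mul_eq_mul_orderOf_of_coprime (by rw [hs4, orderOf_tK]; norm_num), hs4,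
        orderOf_tK]
    · exact ⟨sK, orderOf_sK⟩

/-- The Frobenius group `13^4 : 2.S4`. -/
abbrev H : Type := (Multiplicative (Fin 4 → ZMod 13)) ⋊[Frob.act K] K

instance finite_H : Finite H := Finite.of_equiv _ SemidirectProduct.equivProd.symm

theorem solvable_H : Group.IsSolvable H := Frob.solvable_semidirect _ solvable_K

theorem range_H : Set.range (orderOf : H → ℕ) = {1, 2, 3, 4, 6, 8, 13} := by
  have : Fact (Nat.Prime 13) := ⟨by norm_num⟩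
  rw [Frob.range_orderOf (Frob.act K) 13, range_K]
  · ext m
    simp only [Set.mem_union, Set.mem_insert_iff, Set.mem_singleton_iff]
    tauto
  · intro v
    apply Multiplicative.toAdd.injective
    rw [toAdd_pow, toAdd_one]
    funext i
    rw [Pi.smul_apply, nsmul_eq_mul, ZMod.natCast_self, zero_mul]
    rfl
  · refine ⟨Multiplicative.ofAdd (fun _ => 1), ?_⟩
    intro h
    have := congrFun (congrArg Multiplicative.toAdd h) 0
    exact (show (1 : ZMod 13) ≠ 0 from one_ne_zero) this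
  · exact fun k hk v hv => fix_K k hk v hv

end Cfsg.Agent.H367.Oct13
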