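import Mathlib

/-!
# A number lemma for the type I / type II argument (helper367)

For `h < a` there is a partition of `a` into one, two or three parts (one of which is `1` if there are three) all
coprime to `h`; for `a` not `2`, `9`, `10`, `15` the parts may be chosen distinct if `h` is even.
-/

set_option autoImplicit false

namespace Cfsg.Agent.H367.PartLemma

/-- prescribed residues modulo all the primes dividing `h` -/
theorem exists_of_residues (u : ℕ → ℕ) {h : ℕ} (hh : h ≠ 0) :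
    ∃ c : ℕ, c < h ∧ ∀ q : ℕ, q.Prime → q ∣ h → c ≡ u q [MOD q] := by
  suffices H : ∃ c : ℕ, ∀ q : ℕ, q.Prime → q ∣ h → c ≡ u q [MOD q] by
    obtain ⟨c, hc⟩ := H
    exact ⟨c % h, Nat.mod_lt _ (Nat.pos_of_ne_zero hh), fun q hq hd =>
      ((Nat.mod_modEq c h).of_dvd hd).trans (hc q hq hd)⟩
  induction h using Nat.recOnPosPrimePosCoprime with
  | zero => exact absurd rfl hh
  | one => exact ⟨0, fun q hq h => absurd (Nat.dvd_one.1 h) hq.one_lt.ne'⟩
  | prime_pow p n hp hn =>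
    refine ⟨u p, fun q hq h => ?_⟩
    have := (Nat.prime_dvd_prime_iff_eq hq hp).1 (hq.dvd_of_dvd_pow h)
    rw [this]
  | coprime x y hx hy hxy ihx ihy =>
    obtain ⟨c, hc⟩ := ihx (by omega)
    obtain ⟨d, hd⟩ := ihy (by omega)
    obtain ⟨e, he1, he2⟩ := Nat.chineseRemainder hxy c d
    refine ⟨e, fun q hq h => ?_⟩
    rcases hq.dvd_mul.1 h with h | h
    · exact (he1.of_dvd h).trans (hc q hq h)
    · exact (he2.of_dvd h).trans (hd q hq h)

theorem coprime_of {c h : ℕ} (H : ∀ q : ℕ, q.Prime → q ∣ h → ¬ q ∣ c) : Nat.Coprime c h := by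
  rw [Nat.coprime_iff_gcd_eq_one]
  by_contra hne
  obtain ⟨q, hq, hqd⟩ := Nat.exists_prime_and_dvd hne
  exact H q hq (hqd.trans (Nat.gcd_dvd_right _ _)) (hqd.trans (Nat.gcd_dvd_left _ _))

theorem not_dvd_of_coprime {c h q : ℕ} (H : Nat.Coprime c h) (hq : q.Prime) (hqh : q ∣ h) : ¬ q ∣ c := by
  intro h1
  have h2 := Nat.dvd_gcd h1 hqh
  rw [Nat.Coprime] at H
  rw [H] at h2
  exact hq.one_lt.ne' (Nat.dvd_one.1 h2)

/-- the general choice of two parts of `a`, with an extra condition at the prime `q` -/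
theorem exists_two {a h : ℕ} (h1 : 1 < h) (ha : h % 2 = 0 → a % 2 = 0) (hha : h < a) :
    ∃ c d : ℕ, a = c + d ∧ 1 ≤ c ∧ 1 ≤ d ∧ c < h ∧ Nat.Coprime c h ∧ Nat.Coprime d h ∧
      ∀ q : ℕ, q.Prime → q ∣ h → (q ∣ a → c ≡ 1 [MOD q]) ∧ (¬ q ∣ a → c ≡ 2 * a [MOD q]) := by
  classical
  obtain ⟨c, hlt, hc⟩ := exists_of_residues (fun q => if q ∣ a then 1 else 2 * a) (h := h) (by omega)
  have hc' : ∀ q : ℕ, q.Prime → q ∣ h → (q ∣ a → c ≡ 1 [MOD q]) ∧ (¬ q ∣ a → c ≡ 2 * a [MOD q]) := by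
    intro q hq hqh
    have := hc q hq hqh
    constructor
    · intro hd
      simpa [hd] using this
    · intro hd
      simpa [hd] using this
  have hq2 : ∀ q : ℕ, q.Prime → q ∣ h → ¬ q ∣ a → q ≠ 2 := by
    rintro q hq hqh hqa rfl
    exact hqa (Nat.dvd_of_mod_eq_zero (ha (Nat.mod_eq_zero_of_dvd hqh)))
  have hcop : Nat.Coprime c h := by
    apply coprime_of
    intro q hq hqh hqc
    obtain ⟨A, B⟩ := hc' q hq hqh
    by_cases hqa : q ∣ a
    · have h3 := (A hqa).symm.trans ((Nat.modEq_zero_iff_dvd).2 hqc)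
      exact hq.one_lt.ne' (Nat.dvd_one.1 ((Nat.modEq_zero_iff_dvd).1 h3))
    · have h3 := (B hqa).symm.trans ((Nat.modEq_zero_iff_dvd).2 hqc)
      rcases hq.dvd_mul.1 ((Nat.modEq_zero_iff_dvd).1 h3) with h4 | h4
      · exact hq2 q hq hqh hqa ((Nat.prime_dvd_prime_iff_eq hq Nat.prime_two).1 h4)
      · exact hqa h4
  have hc0 : 1 ≤ c := by
    rw [Nat.one_le_iff_ne_zero]
    rintro rfl
    rw [Nat.coprime_zero_left] at hcop
    omega
  obtain ⟨d, hd⟩ : ∃ d, a = c + d := ⟨a - c, by omega⟩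
  refine ⟨c, d, hd, hc0, by omega, hlt, hcop, ?_, hc'⟩
  apply coprime_of
  intro q hq hqh hqd
  obtain ⟨A, B⟩ := hc' q hq hqh
  have hac : a ≡ c [MOD q] := by
    rw [hd]
    exact Nat.ModEq.add_left c ((Nat.modEq_zero_iff_dvd).2 hqd)
  by_cases hqa : q ∣ a
  · have h3 : c ≡ 0 [MOD q] := hac.symm.trans ((Nat.modEq_zero_iff_dvd).2 hqa)
    exact not_dvd_of_coprime hcop hq hqh ((Nat.modEq_zero_iff_dvd).1 h3)
  · have h6 : 2 * a ≡ a [MOD q] := (B hqa).symm.trans hac.symm
    have h7 : a + a ≡ a + 0 [MOD q] := by rw [← two_mul]; exact h6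
    have h8 : a ≡ 0 [MOD q] := Nat.ModEq.add_left_cancel' _ h7
    exact hqa ((Nat.modEq_zero_iff_dvd).1 h8)

/-- `a` even -/
theorem even_case {a h : ℕ} (ha : a % 2 = 0) (h1 : 1 ≤ h) (hha : h < a) :
    ∃ c d : ℕ, a = c + d ∧ 1 ≤ c ∧ 1 ≤ d ∧ Nat.Coprime c h ∧ Nat.Coprime d h := by
  rcases Nat.eq_or_lt_of_le h1 with h | h
  · subst h
    exact ⟨1, a - 1, by omega, le_rfl, by omega, Nat.coprime_one_right _, Nat.coprime_one_right _⟩
  · obtain ⟨c, d, e, hc, hd, -, h3, h4, -⟩ := exists_two h (fun _ => ha) hha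
    exact ⟨c, d, e, hc, hd, h3, h4⟩

/-- `a` odd -/
theorem odd_case {a h : ℕ} (ha : a % 2 = 1) (h1 : 1 ≤ h) (hha : h < a) :
    Nat.Coprime a h ∨ ∃ c d : ℕ, a = 1 + c + d ∧ 1 ≤ c ∧ 2 ≤ d ∧ Nat.Coprime c h ∧ Nat.Coprime d h := by
  by_cases hcop : Nat.Coprime a h
  · exact Or.inl hcop
  right
  have hne : h ≠ 1 := by
    rintro rfl
    exact hcop (Nat.coprime_one_right _)
  have hne2 : h ≠ a - 1 := by
    rintro rfl
    apply hcop
    rw [Nat.coprime_self_sub_right (by omega)]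
    exact Nat.coprime_one_right _
  obtain ⟨c, d, e, hc, hd, hlt, h3, h4, -⟩ := exists_two (a := a - 1) (h := h) (by omega) (fun _ => by omega) (by omega)
  exact ⟨c, d, by omega, hc, by omega, h3, h4⟩

/-- `a` even, distinct parts if `h` is even -/
theorem even_distinct {a h : ℕ} (ha : a % 2 = 0) (h1 : 1 ≤ h) (hha : h < a) (ha2 : a ≠ 2) (ha10 : a ≠ 10) :
    ∃ c d : ℕ, a = c + d ∧ 1 ≤ c ∧ 1 ≤ d ∧ Nat.Coprime c h ∧ Nat.Coprime d h ∧ (c = d → h % 2 = 1) := by
  rcases Nat.eq_or_lt_of_le h1 with hh1 | hh1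
  · subst hh1
    exact ⟨1, a - 1, by omega, le_rfl, by omega, Nat.coprime_one_right _, Nat.coprime_one_right _, fun _ => rfl⟩
  obtain ⟨c, d, e, hc, hd, hlt, h3, h4, h5⟩ := exists_two hh1 (fun _ => ha) hha
  by_cases hcd : c = d
  swap
  · exact ⟨c, d, e, hc, hd, h3, h4, fun h' => absurd h' hcd⟩
  by_cases hodd : h % 2 = 1
  · exact ⟨c, d, e, hc, hd, h3, h4, fun _ => hodd⟩
  subst hcd
  -- all the primes dividing `h` are `2` or `3`, and `3` does not divide `a`
  have hpr : ∀ q : ℕ, q.Prime → q ∣ h → q = 2 ∨ (q = 3 ∧ ¬ 3 ∣ a) := by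
    intro q hq hqh
    obtain ⟨A, B⟩ := h5 q hq hqh
    have hqc := not_dvd_of_coprime h3 hq hqh
    by_cases hqa : q ∣ a
    · left
      rw [e, ← two_mul] at hqa
      rcases hq.dvd_mul.1 hqa with h6 | h6
      · exact (Nat.prime_dvd_prime_iff_eq hq Nat.prime_two).1 h6
      · exact absurd h6 hqc
    · right
      have h6 := B hqa
      rw [e] at h6
      have h7 : c + 0 ≡ c + 3 * c [MOD q] := by
        have : 2 * (c + c) = c + 3 * c := by ring
        rw [this] at h6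
        simpa using h6
      have h8 := Nat.ModEq.add_left_cancel' _ h7
      have h9 := (Nat.modEq_zero_iff_dvd).1 h8.symm
      rcases hq.dvd_mul.1 h9 with h10 | h10
      · have h11 := (Nat.prime_dvd_prime_iff_eq hq Nat.prime_three).1 h10
        exact ⟨h11, h11 ▸ hqa⟩
      · exact absurd h10 hqc
  have h2h : 2 ∣ h := Nat.dvd_of_mod_eq_zero (by omega)
  have mk : ∀ b : ℕ, 1 ≤ b → b < a → b % 2 = 1 → (3 ∣ h → b % 3 ≠ 0 ∧ (a - b) % 3 ≠ 0) → b ≠ a - b →
      ∃ c d : ℕ, a = c + d ∧ 1 ≤ c ∧ 1 ≤ d ∧ Nat.Coprime c h ∧ Nat.Coprime d h ∧ (c = d → h % 2 = 1) := by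
    intro b hb1 hb2 hb3 hb4 hb5
    refine ⟨b, a - b, by omega, hb1, by omega, ?_, ?_, fun h => absurd h hb5⟩
    · apply coprime_of
      intro q hq hqh hqb
      rcases hpr q hq hqh with rfl | ⟨rfl, h3a⟩
      · have := Nat.mod_eq_zero_of_dvd hqb
        omega
      · exact (hb4 hqh).1 (Nat.mod_eq_zero_of_dvd hqb)
    · apply coprime_of
      intro q hq hqh hqb
      rcases hpr q hq hqh with rfl | ⟨rfl, h3a⟩
      · have := Nat.mod_eq_zero_of_dvd hqb
        omega
      · exact (hb4 hqh).2 (Nat.mod_eq_zero_of_dvd hqb)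
  by_cases h3h : 3 ∣ h
  · have h3a : ¬ 3 ∣ a := by
      rcases hpr 3 Nat.prime_three h3h with h | h
      · omega
      · exact h.2
    have h6 : 6 ≤ h := by
      have := Nat.le_of_dvd (by omega) (Nat.Coprime.mul_dvd_of_dvd_of_dvd (by decide : Nat.Coprime 2 3) h2h h3h)
      omega
    by_cases hm : a % 6 = 4
    · exact mk 5 (by omega) (by omega) rfl (fun _ => ⟨by norm_num, by omega⟩) (by omega)
    · have h3a' : a % 3 ≠ 0 := fun h => h3a (Nat.dvd_of_mod_eq_zero h)
      exact mk 1 le_rfl (by omega) rfl (fun _ => ⟨by norm_num, by omega⟩) (by omega)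
  · exact mk 1 le_rfl (by omega) rfl (fun h => absurd h h3h) (by omega)

/-- a residue modulo `q ≥ 5` avoiding `0`, `b`, `1`, `b / 2` -/
theorem exists_avoid {q b : ℕ} (hq : q.Prime) (h5 : 5 ≤ q) :
    ∃ u : ℕ, ¬ u ≡ 0 [MOD q] ∧ ¬ u ≡ b [MOD q] ∧ ¬ u ≡ 1 [MOD q] ∧ ¬ 2 * u ≡ b [MOD q] := by
  classical
  have : Fact q.Prime := ⟨hq⟩
  -- count in `ZMod q`
  have h2 : (2 : ZMod q) ≠ 0 := by
    intro h
    have h' : ((2 : ℕ) : ZMod q) = 0 := by exact_mod_cast h
    rw [ZMod.natCast_eq_zero_iff] at h'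
    have := Nat.le_of_dvd (by norm_num) h'
    omega
  have hcard : ({0, (b : ZMod q), 1, (b : ZMod q) / 2} : Finset (ZMod q)).card < Fintype.card (ZMod q) := by
    rw [ZMod.card]
    have := Finset.card_le_four (a := (0 : ZMod q)) (b := (b : ZMod q)) (c := 1) (d := (b : ZMod q) / 2)
    omega
  obtain ⟨v, hv⟩ := Finset.exists_mem_notMem_of_card_lt_card
    (s := ({0, (b : ZMod q), 1, (b : ZMod q) / 2} : Finset (ZMod q))) (t := Finset.univ)
    (by rw [Finset.card_univ]; exact hcard)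
  obtain ⟨-, hv⟩ := hv
  simp only [Finset.mem_insert, Finset.mem_singleton, not_or] at hv
  obtain ⟨v0, vb, v1, v2⟩ := hv
  refine ⟨v.val, ?_, ?_, ?_, ?_⟩
  · intro h
    apply v0
    rw [← ZMod.natCast_eq_natCast_iff] at h
    simpa using h
  · intro h
    apply vb
    rw [← ZMod.natCast_eq_natCast_iff] at h
    simpa using h
  · intro h
    apply v1
    rw [← ZMod.natCast_eq_natCast_iff] at h
    simpa using h
  · intro h
    apply v2
    rw [← ZMod.natCast_eq_natCast_iff] at h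
    rw [eq_div_iff h2, mul_comm]
    simpa using h

/-- `a` odd, distinct parts -/
theorem odd_distinct {a h : ℕ} (ha : a % 2 = 1) (h1 : 1 ≤ h) (hha : h < a) (heven : h % 2 = 0) (ha9 : a ≠ 9)
    (ha15 : a ≠ 15) :
    Nat.Coprime a h ∨ ∃ c d : ℕ, a = 1 + c + d ∧ 2 ≤ c ∧ 2 ≤ d ∧ c ≠ d ∧ Nat.Coprime c h ∧ Nat.Coprime d h := by
  classical
  by_cases hcop : Nat.Coprime a h
  · exact Or.inl hcop
  right
  have hne2 : h ≠ a - 1 := by
    rintro rfl
    apply hcop
    rw [Nat.coprime_self_sub_right (by omega)]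
    exact Nat.coprime_one_right _
  obtain ⟨b, hb⟩ : ∃ b, a = b + 1 := ⟨a - 1, by omega⟩
  have h2h : 2 ∣ h := Nat.dvd_of_mod_eq_zero heven
  -- primes dividing both `a` and `h`
  obtain ⟨p, hp, hpg⟩ := Nat.exists_prime_and_dvd hcop
  have hpa : p ∣ a := hpg.trans (Nat.gcd_dvd_left _ _)
  have hph : p ∣ h := hpg.trans (Nat.gcd_dvd_right _ _)
  have hp2 : p ≠ 2 := by
    rintro rfl
    have := Nat.mod_eq_zero_of_dvd hpa
    omega
  -- if a prime `q ≥ 5` divides `h` we are done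
  by_cases H5 : ∃ q : ℕ, q.Prime ∧ q ∣ h ∧ 5 ≤ q
  · obtain ⟨q, hq, hqh, hq5⟩ := H5
    obtain ⟨w, w0, wb, w1, w2⟩ := exists_avoid (b := b) hq hq5
    obtain ⟨c, hlt, hc⟩ := exists_of_residues (fun r => if r = q then w else if r ∣ b then 1 else 2 * b)
      (h := h) (by omega)
    have hcq : c ≡ w [MOD q] := by
      have := hc q hq hqh
      simpa using this
    have hcr : ∀ r : ℕ, r.Prime → r ∣ h → r ≠ q → (r ∣ b → c ≡ 1 [MOD r]) ∧ (¬ r ∣ b → c ≡ 2 * b [MOD r]) := by
      intro r hr hrh hrq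
      have := hc r hr hrh
      constructor
      · intro hd
        simpa [hd, hrq] using this
      · intro hd
        simpa [hd, hrq] using this
    have hr2 : ∀ r : ℕ, r.Prime → r ∣ h → ¬ r ∣ b → r ≠ 2 := by
      rintro r hr hrh hrb rfl
      exact hrb (Nat.dvd_of_mod_eq_zero (by omega))
    have hcopc : Nat.Coprime c h := by
      apply coprime_of
      intro r hr hrh hrc
      have hrc0 := (Nat.modEq_zero_iff_dvd).2 hrc
      by_cases hrq : r = q
      · subst hrq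
        exact w0 (hcq.symm.trans hrc0)
      obtain ⟨A, B⟩ := hcr r hr hrh hrq
      by_cases hrb : r ∣ b
      · have h3 := (A hrb).symm.trans hrc0
        exact hr.one_lt.ne' (Nat.dvd_one.1 ((Nat.modEq_zero_iff_dvd).1 h3))
      · have h3 := (B hrb).symm.trans hrc0
        rcases hr.dvd_mul.1 ((Nat.modEq_zero_iff_dvd).1 h3) with h4 | h4
        · exact hr2 r hr hrh hrb ((Nat.prime_dvd_prime_iff_eq hr Nat.prime_two).1 h4)
        · exact hrb h4
    have hc0 : c ≠ 0 := by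
      rintro rfl
      rw [Nat.coprime_zero_left] at hcopc
      omega
    have hc1 : c ≠ 1 := by
      rintro rfl
      exact w1 hcq.symm
    obtain ⟨d, hd⟩ : ∃ d, b = c + d := ⟨b - c, by omega⟩
    refine ⟨c, d, by omega, by omega, by omega, ?_, hcopc, ?_⟩
    · rintro rfl
      apply w2
      have : 2 * w ≡ 2 * c [MOD q] := Nat.ModEq.mul_left 2 hcq.symm
      rw [two_mul c, ← hd] at this
      exact this
    · apply coprime_of
      intro r hr hrh hrd
      have hac : b ≡ c [MOD r] := by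
        rw [hd]
        exact Nat.ModEq.add_left c ((Nat.modEq_zero_iff_dvd).2 hrd)
      by_cases hrq : r = q
      · subst hrq
        exact wb (hcq.symm.trans hac.symm)
      obtain ⟨A, B⟩ := hcr r hr hrh hrq
      by_cases hrb : r ∣ b
      · have h3 : c ≡ 0 [MOD r] := hac.symm.trans ((Nat.modEq_zero_iff_dvd).2 hrb)
        exact not_dvd_of_coprime hcopc hr hrh ((Nat.modEq_zero_iff_dvd).1 h3)
      · have h6 : 2 * b ≡ b [MOD r] := (B hrb).symm.trans hac.symm
        have h7 : b + b ≡ b + 0 [MOD r] := by rw [← two_mul]; exact h6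
        have h8 : b ≡ 0 [MOD r] := Nat.ModEq.add_left_cancel' _ h7
        exact hrb ((Nat.modEq_zero_iff_dvd).1 h8)
  · -- all the primes dividing `h` are `2` and `3`
    push Not at H5
    have hpr : ∀ q : ℕ, q.Prime → q ∣ h → q = 2 ∨ q = 3 := by
      intro q hq hqh
      have h5 := H5 q hq hqh
      have h4 : q ≠ 4 := by
        rintro rfl
        exact absurd hq (by norm_num)
      have := hq.two_le
      omega
    have hp3 : p = 3 := by
      rcases hpr p hp hph with h | h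
      · exact absurd h hp2
      · exact h
    subst hp3
    have h6 : 6 ≤ h := by
      have := Nat.le_of_dvd (by omega) (Nat.Coprime.mul_dvd_of_dvd_of_dvd (by decide : Nat.Coprime 2 3) h2h hph)
      omega
    have h3a := Nat.mod_eq_zero_of_dvd hpa
    refine ⟨7, a - 8, by omega, by omega, by omega, by omega, ?_, ?_⟩
    · apply coprime_of
      intro r hr hrh hrd
      rcases hpr r hr hrh with rfl | rfl
      · omega
      · omega
    · apply coprime_of
      intro r hr hrh hrd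
      rcases hpr r hr hrh with rfl | rfl
      · have := Nat.mod_eq_zero_of_dvd hrd
        omega
      · have := Nat.mod_eq_zero_of_dvd hrd
        omega

end Cfsg.Agent.H367.PartLemma
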