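import Mathlib
import Cfsg.Agent.H367.ListGrp2

/-!
# The element orders of `PSL(3,3)`
-/

set_option autoImplicit false
set_option linter.unusedSimpArgs false

namespace Cfsg.Agent.H367.SpecL33

open Matrix Polynomial

variable {F : Type*} [Field F]

theorem charpoly_dvd (h3 : (3 : F[X]) = 0) (a b : F) (ha : a = 0 ∨ a = 1 ∨ a = 2)
    (hb : b = 0 ∨ b = 1 ∨ b = 2) :
    (X ^ 3 + C a * X ^ 2 + C b * X - 1 : F[X]) ∣ X ^ 6 - 1 ∨
    (X ^ 3 + C a * X ^ 2 + C b * X - 1 : F[X]) ∣ X ^ 8 - 1 ∨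
    (X ^ 3 + C a * X ^ 2 + C b * X - 1 : F[X]) ∣ X ^ 13 - 1 := by
  rcases ha with rfl | rfl | rfl <;> rcases hb with rfl | rfl | rfl
  · left
    exact ⟨1 + 1*X^3, by simp only [map_zero, map_one, map_ofNat]; linear_combination (0) * h3⟩
  · right; left
    exact ⟨1 + 1*X^1 + 1*X^2 + (-1)*X^3 + 1*X^5, by simp only [map_zero, map_one, map_ofNat]; linear_combination ((-1)*X^3) * h3⟩
  · right; right
    exact ⟨1 + (-1)*X^1 + 1*X^2 + (-1)*X^4 + (-1)*X^5 + 1*X^6 + 1*X^7 + 1*X^8 + 1*X^10, by simp only [map_zero, map_one, map_ofNat]; linear_combination ((-1)*X^1 + 1*X^2 + (-1)*X^3 + 1*X^6 + (-1)*X^9 + (-1)*X^11) * h3⟩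
  · right; right
    exact ⟨1 + 1*X^2 + 1*X^3 + 1*X^4 + (-1)*X^5 + (-1)*X^6 + 1*X^8 + (-1)*X^9 + 1*X^10, by simp only [map_zero, map_one, map_ofNat]; linear_combination ((-1)*X^5 + (-1)*X^6 + 1*X^8) * h3⟩
  · right; right
    exact ⟨1 + 1*X^1 + (-1)*X^2 + 1*X^3 + 1*X^4 + 1*X^5 + (-1)*X^7 + (-1)*X^9 + 1*X^10, by simp only [map_zero, map_one, map_ofNat]; linear_combination ((-1)*X^2 + (-1)*X^6 + (-1)*X^7 + 1*X^10) * h3⟩
  · left
    exact ⟨1 + (-1)*X^1 + (-1)*X^2 + 1*X^3, by simp only [map_zero, map_one, map_ofNat]; linear_combination ((-1)*X^1 + 1*X^3) * h3⟩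
  · right; left
    exact ⟨1 + (-1)*X^2 + 1*X^3 + 1*X^4 + 1*X^5, by simp only [map_zero, map_one, map_ofNat]; linear_combination ((-1)*X^2 + 1*X^4 + (-1)*X^6 + (-1)*X^7) * h3⟩
  · right; left
    exact ⟨1 + 1*X^1 + 1*X^4 + 1*X^5, by simp only [map_zero, map_one, map_ofNat]; linear_combination ((-1)*X^2 + (-1)*X^3 + (-1)*X^6 + (-1)*X^7) * h3⟩
  · right; right
    exact ⟨1 + (-1)*X^1 + (-1)*X^3 + 1*X^5 + 1*X^6 + 1*X^7 + (-1)*X^8 + 1*X^9 + 1*X^10, by simp only [map_zero, map_one, map_ofNat]; linear_combination ((-1)*X^1 + 1*X^4 + 1*X^5 + (-1)*X^7 + (-2)*X^8 + (-1)*X^11 + (-1)*X^12) * h3⟩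

theorem charpoly_eq (M : Matrix (Fin 3) (Fin 3) F) (hM : M.det = 1) :
    ∃ a b : F, M.charpoly = X ^ 3 + C a * X ^ 2 + C b * X - 1 := by
  refine ⟨M.charpoly.coeff 2, M.charpoly.coeff 1, ?_⟩
  have hdeg : M.charpoly.natDegree = 3 := by
    rw [Matrix.charpoly_natDegree_eq_dim, Fintype.card_fin]
  have h0 : M.charpoly.coeff 0 = -1 := by
    have := Matrix.det_eq_sign_charpoly_coeff M
    rw [hM, Fintype.card_fin] at this
    linear_combination this
  have h := (Matrix.charpoly_monic M).as_sum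
  rw [hdeg] at h
  simp only [Finset.sum_range_succ, Finset.sum_range_zero] at h
  rw [h0] at h
  refine h.trans ?_
  simp only [pow_zero, pow_one, mul_one, map_neg, map_one]
  ring

theorem pow_eq_one [Fintype F] (hF : Fintype.card F = 3) (M : Matrix (Fin 3) (Fin 3) F)
    (hM : M.det = 1) : M ^ 6 = 1 ∨ M ^ 8 = 1 ∨ M ^ 13 = 1 := by
  classical
  have hc : ∀ x : F, x = 0 ∨ x = 1 ∨ x = 2 := by
    intro x
    have h1 : x ^ 3 = x := by rw [← hF]; exact FiniteField.pow_card x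
    have h3 : (3 : F) = 0 := by
      have := Nat.cast_card_eq_zero (R := F)
      rw [hF] at this
      exact_mod_cast this
    have h2 : x * (x - 1) * (x - 2) = 0 := by
      linear_combination h1 + (x - x ^ 2) * h3
    rcases mul_eq_zero.1 h2 with h | h
    · rcases mul_eq_zero.1 h with h | h
      · exact Or.inl h
      · exact Or.inr (Or.inl (sub_eq_zero.1 h))
    · exact Or.inr (Or.inr (sub_eq_zero.1 h))
  have h3 : (3 : F[X]) = 0 := by
    have : (3 : F) = 0 := by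
      have := Nat.cast_card_eq_zero (R := F)
      rw [hF] at this
      exact_mod_cast this
    rw [← map_ofNat (C : F →+* F[X]) 3, this, map_zero]
  obtain ⟨a, b, hab⟩ := charpoly_eq M hM
  have key : ∀ N : ℕ, M.charpoly ∣ X ^ N - 1 → M ^ N = 1 := by
    rintro N ⟨q, hq⟩
    have h := congrArg (Polynomial.aeval M) hq
    rw [map_mul, Matrix.aeval_self_charpoly, zero_mul] at h
    simp only [map_sub, map_pow, aeval_X, map_one] at h
    exact sub_eq_zero.1 h
  rcases charpoly_dvd h3 a b (hc a) (hc b) with h | h | h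
  · exact Or.inl (key 6 (hab ▸ h))
  · exact Or.inr (Or.inl (key 8 (hab ▸ h)))
  · exact Or.inr (Or.inr (key 13 (hab ▸ h)))

/-- The homomorphism `SL(3,3) → PSL(3,F)`, injective for `|F| = 3`. -/
noncomputable def psi (φ : ZMod 3 →+* F) :
    SpecialLinearGroup (Fin 3) (ZMod 3) →* ProjectiveSpecialLinearGroup (Fin 3) F :=
  (QuotientGroup.mk' _).comp (SpecialLinearGroup.map φ)

theorem psi_injective [Fintype F] (hF : Fintype.card F = 3) (φ : ZMod 3 →+* F) :
    Function.Injective (psi φ) := by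
  rw [injective_iff_map_eq_one]
  intro g hg
  have h1 : SpecialLinearGroup.map φ g ∈ Subgroup.center (SpecialLinearGroup (Fin 3) F) :=
    (QuotientGroup.eq_one_iff _).1 hg
  rw [Matrix.SpecialLinearGroup.mem_center_iff] at h1
  obtain ⟨r, hr, hrg⟩ := h1
  rw [Fintype.card_fin, ← hF, FiniteField.pow_card] at hr
  rw [hr, map_one] at hrg
  apply Matrix.SpecialLinearGroup.ext
  intro i j
  apply φ.injective
  have := congrFun (congrFun hrg i) j
  rw [Matrix.SpecialLinearGroup.map_apply_coe, RingHom.mapMatrix_apply, Matrix.map_apply] at this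
  rw [← this, Matrix.SpecialLinearGroup.coe_one, Matrix.one_apply, Matrix.one_apply]
  split_ifs <;> simp

def g13 : SpecialLinearGroup (Fin 3) (ZMod 3) :=
  ⟨!![0, 0, 1; 1, 0, 1; 0, 1, 0], by decide +kernel⟩

def g8 : SpecialLinearGroup (Fin 3) (ZMod 3) :=
  ⟨!![0, 0, 1; 1, 0, 2; 0, 1, 0], by decide +kernel⟩

def g6 : SpecialLinearGroup (Fin 3) (ZMod 3) :=
  ⟨!![0, 0, 1; 1, 0, 1; 0, 1, 2], by decide +kernel⟩

theorem g13_pow : g13 ^ 13 = 1 ∧ g13 ≠ 1 := by decide +kernel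

theorem g8_pow : g8 ^ 8 = 1 ∧ g8 ^ 4 ≠ 1 := by decide +kernel

theorem g6_pow : g6 ^ 6 = 1 ∧ g6 ^ 2 ≠ 1 ∧ g6 ^ 3 ≠ 1 := by decide +kernel

theorem orderOf_g13 : orderOf g13 = 13 := by
  have : Fact (Nat.Prime 13) := ⟨by norm_num⟩
  exact orderOf_eq_prime g13_pow.1 g13_pow.2

theorem orderOf_g8 : orderOf g8 = 8 :=
  orderOf_eq_prime_pow (p := 2) (n := 2) g8_pow.2 g8_pow.1

theorem orderOf_g6 : orderOf g6 = 6 := by
  apply orderOf_eq_of_pow_and_pow_div_prime (by norm_num) g6_pow.1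
  intro p hp hpd
  have h6 : p ∣ 2 * 3 := hpd
  rcases (Nat.Prime.dvd_mul hp).1 h6 with h | h
  · rw [(Nat.prime_dvd_prime_iff_eq hp Nat.prime_two).1 h]
    exact g6_pow.2.2
  · rw [(Nat.prime_dvd_prime_iff_eq hp Nat.prime_three).1 h]
    exact g6_pow.2.1

/-- The element orders of `PSL(3,3)`. -/
theorem range_orderOf [Fintype F] (hF : Fintype.card F = 3) :
    Set.range (orderOf : ProjectiveSpecialLinearGroup (Fin 3) F → ℕ) = {1, 2, 3, 4, 6, 8, 13} := by
  classical
  have : Fact (Nat.Prime 3) := ⟨by norm_num⟩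
  have hchar : CharP F 3 := by
    obtain ⟨p, hp⟩ := CharP.exists F
    obtain ⟨n, hn, hc⟩ := FiniteField.card F p
    rw [hF] at hc
    have h1 : p ∣ 3 := by rw [hc]; exact dvd_pow_self _ n.ne_zero
    rw [(Nat.prime_dvd_prime_iff_eq hn Nat.prime_three).1 h1] at hp
    exact hp
  let φ : ZMod 3 →+* F := ZMod.castHom (dvd_refl 3) F
  have hinj := psi_injective hF φ
  have hord : ∀ g : SpecialLinearGroup (Fin 3) (ZMod 3), orderOf (psi φ g) = orderOf g :=
    fun g => orderOf_injective _ hinj g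
  ext m
  constructor
  · rintro ⟨x, rfl⟩
    obtain ⟨g, rfl⟩ := QuotientGroup.mk_surjective x
    have key : ∀ N : ℕ, (g : Matrix (Fin 3) (Fin 3) F) ^ N = 1 →
        orderOf (QuotientGroup.mk g : ProjectiveSpecialLinearGroup (Fin 3) F) ∣ N := by
      intro N hN
      apply orderOf_dvd_of_pow_eq_one
      have : g ^ N = 1 := by
        apply Matrix.SpecialLinearGroup.ext
        intro i j
        rw [Matrix.SpecialLinearGroup.coe_pow, hN, Matrix.SpecialLinearGroup.coe_one]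
      rw [← QuotientGroup.mk_pow, this, QuotientGroup.mk_one]
    rcases pow_eq_one hF (g : Matrix (Fin 3) (Fin 3) F) g.2 with h | h | h
    · have hd := key _ h
      have hle := Nat.le_of_dvd (by norm_num) hd
      generalize orderOf (QuotientGroup.mk g : ProjectiveSpecialLinearGroup (Fin 3) F) = k at hd hle ⊢
      interval_cases k <;> first | (exfalso; revert hd; norm_num; done) | simp
    · have hd := key _ h
      have hle := Nat.le_of_dvd (by norm_num) hd
      generalize orderOf (QuotientGroup.mk g : ProjectiveSpecialLinearGroup (Fin 3) F) = k at hd hle ⊢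
      interval_cases k <;> first | (exfalso; revert hd; norm_num; done) | simp
    · have hd := key _ h
      rcases (Nat.dvd_prime (by norm_num : Nat.Prime 13)).1 hd with h | h <;> simp [h]
  · intro hm
    rcases hm with rfl | rfl | rfl | rfl | rfl | rfl | rfl
    · exact ⟨1, orderOf_one⟩
    · refine ⟨psi φ (g8 ^ 4), ?_⟩
      rw [hord, orderOf_pow' _ (by norm_num), orderOf_g8]
      norm_num
    · refine ⟨psi φ (g6 ^ 2), ?_⟩
      rw [hord, orderOf_pow' _ (by norm_num), orderOf_g6]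
      norm_num
    · refine ⟨psi φ (g8 ^ 2), ?_⟩
      rw [hord, orderOf_pow' _ (by norm_num), orderOf_g8]
      norm_num
    · exact ⟨psi φ g6, by rw [hord, orderOf_g6]⟩
    · exact ⟨psi φ g8, by rw [hord, orderOf_g8]⟩
    · exact ⟨psi φ g13, by rw [hord, orderOf_g13]⟩

end Cfsg.Agent.H367.SpecL33
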