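import Mathlib
import Cfsg.Agent.H367.ThreeGrp

/-!
# The `2`-Frobenius type group `3^32 : 5 : 4` with element orders `1, 2, 3, 4, 5, 6, 9, 12`
-/

set_option autoImplicit false
set_option linter.unusedSimpArgs false

namespace Cfsg.Agent.H367.TwoFrob

open ThreeGrp

instance fact3 : Fact (Nat.Prime 3) := ⟨Nat.prime_three⟩

abbrev F : Type := GaloisField 3 4

noncomputable def s : F →+* F := frobenius F 3

noncomputable def t : F →+* F := s.comp (s.comp s)

theorem s_apply (x : F) : s x = x ^ 3 := rfl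

theorem t_apply (x : F) : t x = x ^ 27 := by
  change ((x ^ 3) ^ 3) ^ 3 = x ^ 27
  ring

theorem three : (3 : F) = 0 := by
  have := CharP.cast_eq_zero F 3
  exact_mod_cast this

noncomputable instance fintypeF : Fintype F := Fintype.ofFinite F

theorem card_F : Fintype.card F = 81 := by
  have h := GaloisField.card 3 4 (by norm_num)
  rw [← Nat.card_eq_fintype_card, h]
  norm_num

theorem pow_81 (x : F) : x ^ 81 = x := by
  have := FiniteField.pow_card x
  rwa [card_F] at this

/-- The `3`-group. -/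
abbrev A : Type := Pt F

noncomputable instance groupA : Group A where
  mul a b := mulPt s t a b
  one := onePt
  inv a := invPt s t a
  mul_assoc a b c := mulPt_assoc s t a b c
  one_mul a := one_mulPt s t a
  mul_one a := mulPt_one s t a
  inv_mul_cancel a := invPt_mul s t a

theorem mul_def (a b : A) : a * b = mulPt s t a b := rfl

theorem one_def : (1 : A) = onePt := rfl

theorem cube (a : A) : a * a * a =
    (⟨0, 0, 0, 0, 0, -((t a.x * s a.y - s a.x * t a.y) * a.m), 0, 0⟩ : Pt F) := by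
  have h3 := three
  rw [mul_def, mul_def]
  apply Pt.ext
  · simp only [mulPt, map_add]
    linear_combination a.m * h3
  · simp only [mulPt, map_add]
    linear_combination (a.u1 + s a.y * a.m) * h3
  · simp only [mulPt, map_add]
    linear_combination (a.u2 + t a.y * a.m) * h3
  · simp only [mulPt, map_add]
    linear_combination (a.u3 + t a.x * a.m) * h3
  · simp only [mulPt, map_add]
    linear_combination (a.u4 + s a.x * a.m) * h3
  · simp only [mulPt, map_add]
    linear_combination (a.w + (t a.x * a.u1 - s a.x * a.u2 + s a.y * a.u3 - t a.y * a.u4) +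
      2 * ((t a.x * s a.y - s a.x * t a.y) * a.m)) * h3
  · simp only [mulPt, map_add]
    linear_combination a.x * h3
  · simp only [mulPt, map_add]
    linear_combination a.y * h3

theorem pow_three (a : A) : a ^ 3 =
    (⟨0, 0, 0, 0, 0, -((t a.x * s a.y - s a.x * t a.y) * a.m), 0, 0⟩ : Pt F) := by
  rw [← cube, pow_succ, sq]

theorem pow_nine (a : A) : a ^ 9 = 1 := by
  rw [show 9 = 3 * 3 from rfl, pow_mul, pow_three (a ^ 3), one_def]
  rw [pow_three]
  simp [onePt]

/-- Equivalence with a product, for finiteness. -/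
def ptEquiv : Pt F ≃ (F × F × F × F) × (F × F × F × F) where
  toFun a := ((a.m, a.u1, a.u2, a.u3), (a.u4, a.w, a.x, a.y))
  invFun b := ⟨b.1.1, b.1.2.1, b.1.2.2.1, b.1.2.2.2, b.2.1, b.2.2.1, b.2.2.2.1, b.2.2.2.2⟩
  left_inv _ := rfl
  right_inv _ := rfl

instance finiteA : Finite A := Finite.of_equiv _ ptEquiv.symm

/-- `r`-th power is additive for `r = 3^j`. -/
theorem add_pow_three_pow (x y : F) (j : ℕ) : (x + y) ^ 3 ^ j = x ^ 3 ^ j + y ^ 3 ^ j :=
  add_pow_char_pow x y 3 j

theorem sub_pow_three_pow (x y : F) (j : ℕ) : (x - y) ^ 3 ^ j = x ^ 3 ^ j - y ^ 3 ^ j :=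
  sub_pow_char_pow x y j

theorem pow_injective (j : ℕ) : Function.Injective (fun x : F => x ^ 3 ^ j) := by
  intro x y hxy
  have h : (x - y) ^ 3 ^ j = 0 := by
    rw [sub_pow_three_pow]
    exact sub_eq_zero.2 hxy
  exact sub_eq_zero.1 (pow_eq_zero_iff (by positivity) |>.1 h)

theorem s_pow (x : F) (j : ℕ) : s (x ^ 3 ^ j) = (s x) ^ 3 ^ j := map_pow s x _

theorem t_pow (x : F) (j : ℕ) : t (x ^ 3 ^ j) = (t x) ^ 3 ^ j := map_pow t x _

/-- The maps of the complement. -/
noncomputable def act (l : F) (j : ℕ) (a : A) : A where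
  m := l * a.m ^ 3 ^ j
  u1 := l ^ 4 * a.u1 ^ 3 ^ j
  u2 := l ^ 3 * a.u2 ^ 3 ^ j
  u3 := l ^ 3 * a.u3 ^ 3 ^ j
  u4 := l ^ 4 * a.u4 ^ 3 ^ j
  w := l * a.w ^ 3 ^ j
  x := l * a.x ^ 3 ^ j
  y := l * a.y ^ 3 ^ j

theorem act_mul {l : F} (hl : l ^ 5 = 1) (j : ℕ) (a b : A) :
    act l j (a * b) = act l j a * act l j b := by
  have hs : ∀ x : F, s (l * x ^ 3 ^ j) = l ^ 3 * (s x) ^ 3 ^ j := fun x => by
    rw [map_mul, s_pow, s_apply l]
  have ht : ∀ x : F, t (l * x ^ 3 ^ j) = l ^ 2 * (t x) ^ 3 ^ j := fun x => by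
    have h27 : l ^ 27 = l ^ 2 := by
      rw [show 27 = 5 * 5 + 2 from rfl, pow_add, pow_mul, hl, one_pow, one_mul]
    rw [map_mul, t_pow, t_apply l, h27]
  rw [mul_def, mul_def]
  apply Pt.ext
  · simp only [mulPt, act, add_pow_three_pow]
    ring
  · simp only [mulPt, act, add_pow_three_pow, mul_pow, hs]
    ring
  · simp only [mulPt, act, add_pow_three_pow, mul_pow, ht]
    ring
  · simp only [mulPt, act, add_pow_three_pow, mul_pow, ht]
    ring
  · simp only [mulPt, act, add_pow_three_pow, mul_pow, hs]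
    ring
  · simp only [mulPt, act, add_pow_three_pow, sub_pow_three_pow, mul_pow, hs, ht]
    linear_combination (l * (-(t a.x ^ 3 ^ j * b.u1 ^ 3 ^ j) + (s a.x ^ 3 ^ j * b.u2 ^ 3 ^ j) -
      (s a.y ^ 3 ^ j * b.u3 ^ 3 ^ j) + (t a.y ^ 3 ^ j * b.u4 ^ 3 ^ j) -
      (t a.x ^ 3 ^ j * s a.y ^ 3 ^ j - s a.x ^ 3 ^ j * t a.y ^ 3 ^ j) * b.m ^ 3 ^ j)) * hl
  · simp only [mulPt, act, add_pow_three_pow]
    ring
  · simp only [mulPt, act, add_pow_three_pow]
    ring

theorem ne_zero_of_pow {l : F} (hl : l ^ 5 = 1) : l ≠ 0 := by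
  rintro rfl
  norm_num at hl

theorem act_injective {l : F} (hl : l ^ 5 = 1) (j : ℕ) : Function.Injective (act l j) := by
  have h0 := ne_zero_of_pow hl
  intro a b hab
  have hinj := pow_injective j
  apply Pt.ext
  · exact hinj (mul_left_cancel₀ h0 (congrArg Pt.m hab))
  · exact hinj (mul_left_cancel₀ (pow_ne_zero 4 h0) (congrArg Pt.u1 hab))
  · exact hinj (mul_left_cancel₀ (pow_ne_zero 3 h0) (congrArg Pt.u2 hab))
  · exact hinj (mul_left_cancel₀ (pow_ne_zero 3 h0) (congrArg Pt.u3 hab))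
  · exact hinj (mul_left_cancel₀ (pow_ne_zero 4 h0) (congrArg Pt.u4 hab))
  · exact hinj (mul_left_cancel₀ h0 (congrArg Pt.w hab))
  · exact hinj (mul_left_cancel₀ h0 (congrArg Pt.x hab))
  · exact hinj (mul_left_cancel₀ h0 (congrArg Pt.y hab))

/-- The automorphism of `A` given by `l` and `j`. -/
noncomputable def autOf (l : F) (hl : l ^ 5 = 1) (j : ℕ) : MulAut A :=
  MulEquiv.ofBijective
    ({ toFun := act l j
       map_one' := by
        apply Pt.ext <;> simp [act, one_def, onePt]
       map_mul' := act_mul hl j } : A →* A)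
    (Finite.injective_iff_bijective.1 (act_injective hl j))

theorem autOf_apply (l : F) (hl : l ^ 5 = 1) (j : ℕ) (a : A) : autOf l hl j a = act l j a := rfl

/-- `κ` is one of the maps `act l j`. -/
def Form (l : F) (j : ℕ) (κ : MulAut A) : Prop := l ^ 5 = 1 ∧ ∀ a, κ a = act l j a

theorem act_act (l l' : F) (j j' : ℕ) (a : A) :
    act l j (act l' j' a) = act (l * l' ^ 3 ^ j) (j' + j) a := by
  have h : ∀ (x y : F), (x * y ^ 3 ^ j') ^ 3 ^ j = x ^ 3 ^ j * y ^ 3 ^ (j' + j) := by
    intro x y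
    rw [mul_pow, ← pow_mul, ← pow_add]
  have h2 : ∀ n : ℕ, (l' ^ n) ^ 3 ^ j = (l' ^ 3 ^ j) ^ n := fun n => by
    rw [← pow_mul, ← pow_mul, mul_comm]
  apply Pt.ext <;> simp only [act, h, h2] <;> ring

theorem Form.mul {l l' : F} {j j' : ℕ} {κ κ' : MulAut A} (h : Form l j κ) (h' : Form l' j' κ') :
    Form (l * l' ^ 3 ^ j) (j' + j) (κ * κ') := by
  refine ⟨?_, fun a => ?_⟩
  · rw [mul_pow, h.1, one_mul, ← pow_mul, mul_comm, pow_mul, h'.1, one_pow]
  · rw [MulAut.mul_apply, h'.2, h.2, act_act]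

theorem act_one_zero (a : A) : act 1 0 a = a := by
  apply Pt.ext <;> simp [act]

theorem form_one : Form 1 0 1 := ⟨one_pow _, fun a => by rw [act_one_zero, MulAut.one_apply]⟩

theorem exists_form_pow {κ : MulAut A} (h : ∃ l j, Form l j κ) (n : ℕ) : ∃ l j, Form l j (κ ^ n) := by
  induction n with
  | zero => exact ⟨1, 0, by rw [pow_zero]; exact form_one⟩
  | succ n ih =>
    obtain ⟨l, j, h1⟩ := ih
    obtain ⟨l', j', h2⟩ := h
    exact ⟨_, _, by rw [pow_succ]; exact h1.mul h2⟩

/-- The complement `5 : 4`. -/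
def K : Subgroup (MulAut A) where
  carrier := {κ | ∃ l j, Form l j κ}
  mul_mem' := by
    rintro κ κ' ⟨l, j, h⟩ ⟨l', j', h'⟩
    exact ⟨_, _, h.mul h'⟩
  one_mem' := ⟨1, 0, form_one⟩
  inv_mem' := by
    intro κ h
    have hfin : Finite (MulAut A) := Finite.of_injective (fun κ : MulAut A => (κ : A → A))
      (fun _ _ h => MulEquiv.ext (congrFun h))
    have h1 : κ⁻¹ = κ ^ (orderOf κ - 1) := by
      rw [inv_eq_iff_mul_eq_one, ← pow_succ', Nat.sub_add_cancel (orderOf_pos κ), pow_orderOf_eq_one]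
    rw [h1]
    exact exists_form_pow h _

instance finiteMulAut : Finite (MulAut A) := Finite.of_injective (fun κ : MulAut A => (κ : A → A))
      (fun _ _ h => MulEquiv.ext (congrFun h))

theorem pow_add_four (x : F) (j : ℕ) : x ^ 3 ^ (j + 4) = x ^ 3 ^ j := by
  rw [pow_add, pow_mul, show (3 : ℕ) ^ 4 = 81 from rfl, pow_81]

theorem pow_mod (x : F) (j : ℕ) : x ^ 3 ^ j = x ^ 3 ^ (j % 4) := by
  induction j using Nat.strong_induction_on with
  | _ j ih =>
    by_cases hj : j < 4
    · rw [Nat.mod_eq_of_lt hj]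
    · obtain ⟨i, rfl⟩ : ∃ i, j = i + 4 := ⟨j - 4, by omega⟩
      rw [pow_add_four, ih i (by omega), Nat.add_mod_right]

theorem act_mod (l : F) (j : ℕ) (a : A) : act l j a = act l (j % 4) a := by
  apply Pt.ext <;> simp only [act] <;> rw [pow_mod]

theorem Form.mod {l : F} {j : ℕ} {κ : MulAut A} (h : Form l j κ) : Form l (j % 4) κ :=
  ⟨h.1, fun a => by rw [h.2, act_mod]⟩

/-- The value at the point `(m, 0, ...)` determines the form. -/
theorem Form.unique {l l' : F} {j j' : ℕ} {κ : MulAut A} (h : Form l j κ) (h' : Form l' j' κ) :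
    l = l' ∧ ∀ x : F, x ^ 3 ^ j = x ^ 3 ^ j' := by
  have key : ∀ x : F, l * x ^ 3 ^ j = l' * x ^ 3 ^ j' := by
    intro x
    have := (h.2 ⟨x, 0, 0, 0, 0, 0, 0, 0⟩).symm.trans (h'.2 ⟨x, 0, 0, 0, 0, 0, 0, 0⟩)
    exact congrArg Pt.m this
  have hl : l = l' := by
    have := key 1
    rwa [one_pow, one_pow, mul_one, mul_one] at this
  subst hl
  exact ⟨rfl, fun x => mul_left_cancel₀ (ne_zero_of_pow h.1) (key x)⟩

theorem commutator_form {κ κ' : MulAut A} (h : κ ∈ K) (h' : κ' ∈ K) :
    ∃ l, Form l 0 (κ * κ' * κ⁻¹ * κ'⁻¹) := by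
  obtain ⟨n, i, hn⟩ := K.mul_mem (K.mul_mem (K.mul_mem h h') (K.inv_mem h)) (K.inv_mem h')
  obtain ⟨l, j, hl⟩ := h
  obtain ⟨l', j', hl'⟩ := h'
  have h1 := hn.mul (hl'.mul hl)
  have h2 := hl.mul hl'
  have he : κ * κ' * κ⁻¹ * κ'⁻¹ * (κ' * κ) = κ * κ' := by group
  rw [he] at h1
  obtain ⟨-, h4⟩ := h1.unique h2
  refine ⟨n, hn.1, fun a => ?_⟩
  have h5 : ∀ x : F, x ^ 3 ^ i = x := by
    intro x
    have h6 := h4 x
    rw [add_comm j j', pow_add, mul_comm, pow_mul] at h6
    exact pow_injective _ h6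
  rw [hn.2]
  apply Pt.ext <;> simp only [act] <;> rw [h5] <;> simp

/-- The subgroup of order five. -/
def K0 : Subgroup K where
  carrier := {κ | ∃ l, Form l 0 κ.1}
  mul_mem' := by
    rintro κ κ' ⟨l, h⟩ ⟨l', h'⟩
    exact ⟨_, h.mul h'⟩
  one_mem' := ⟨1, form_one⟩
  inv_mem' := by
    intro κ h
    have h1 : κ⁻¹ = κ ^ (orderOf κ - 1) := by
      rw [inv_eq_iff_mul_eq_one, ← pow_succ', Nat.sub_add_cancel (orderOf_pos κ), pow_orderOf_eq_one]
    rw [h1]
    have h2 : ∀ n : ℕ, ∃ l, Form l 0 (κ.1 ^ n) := by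
      intro n
      induction n with
      | zero => exact ⟨1, by rw [pow_zero]; exact form_one⟩
      | succ n ih =>
        obtain ⟨l, h1⟩ := ih
        obtain ⟨l', h2⟩ := h
        exact ⟨_, by rw [pow_succ]; exact h1.mul h2⟩
    exact h2 _

theorem commutator_le : commutator K ≤ K0 := by
  rw [commutator_def, Subgroup.commutator_le]
  intro g _ h _
  exact commutator_form g.2 h.2

theorem K0_comm {κ κ' : K} (h : κ ∈ K0) (h' : κ' ∈ K0) : κ * κ' = κ' * κ := by
  obtain ⟨l, h⟩ := h
  obtain ⟨l', h'⟩ := h'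
  apply Subtype.ext
  apply MulEquiv.ext
  intro a
  have h1 := h.mul h'
  have h2 := h'.mul h
  change (κ.1 * κ'.1) a = (κ'.1 * κ.1) a
  rw [h1.2, h2.2]
  congr 1
  simp [mul_comm]

theorem solvable_K : Group.IsSolvable K := by
  have h1 : Group.IsSolvable (commutator K) :=
    Group.isSolvable_of_comm
      (fun a b => Subtype.ext (K0_comm (commutator_le a.2) (commutator_le b.2)))
  have h2 : Group.IsSolvable (Abelianization K) := inferInstance
  exact Group.isSolvable_of_ker_le_range (commutator K).subtype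
    (Abelianization.of : K →* Abelianization K) (by
      rw [Abelianization.ker_of, Subgroup.range_subtype])

/-- The group `3^32 : (5 : 4)`. -/
abbrev H : Type := A ⋊[K.subtype] K

instance finite_H : Finite H := Finite.of_equiv _ SemidirectProduct.equivProd.symm

theorem solvable_A : Group.IsSolvable A := by
  have hp : IsPGroup 3 A := fun a => ⟨2, pow_nine a⟩
  have : Group.IsNilpotent A := hp.isNilpotent
  infer_instance

theorem solvable_H : Group.IsSolvable H := by
  have h1 := solvable_A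
  have h2 := solvable_K
  exact Group.isSolvable_of_ker_le_range (SemidirectProduct.inl : A →* H)
    (SemidirectProduct.rightHom : H →* K)
    (SemidirectProduct.range_inl_eq_ker_rightHom (φ := K.subtype)).ge

theorem pow_right (h : H) (n : ℕ) : (h ^ n).right = h.right ^ n :=
  map_pow (SemidirectProduct.rightHom : H →* K) h n

theorem eq_inl {h : H} (hh : h.right = 1) : h = SemidirectProduct.inl h.left :=
  SemidirectProduct.ext (by simp) (by simpa using hh)

theorem form_unit {κ : MulAut A} (h : Form 1 0 κ) : κ = 1 :=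
  MulEquiv.ext fun a => by rw [h.2, act_one_zero, MulAut.one_apply]

/-- Elements outside over involutions have order dividing `6`. -/
theorem pow_six {h : H} {l : F} (hf : Form l 2 h.right.1) : h ^ 6 = 1 := by
  have hκ : h.right * h.right = 1 := by
    apply Subtype.ext
    apply form_unit
    have h1 := (hf.mul hf).mod
    have h2 : l * l ^ 3 ^ 2 = 1 := by
      calc l * l ^ 3 ^ 2 = (l ^ 5) ^ 2 := by ring
        _ = 1 := by rw [hf.1, one_pow]
    rw [h2] at h1
    exact h1
  have hl0 := ne_zero_of_pow hf.1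
  have hright : (h * h).right = 1 := hκ
  have hsq : h * h = SemidirectProduct.inl (h.left * act l 2 h.left) := by
    rw [eq_inl hright]
    congr 1
    change h.left * h.right.1 h.left = _
    rw [hf.2]
  have hcube : (h.left * act l 2 h.left) ^ 3 = 1 := by
    rw [pow_three, one_def]
    set b : A := h.left * act l 2 h.left with hb
    have hx : l * b.x ^ 9 = b.x := by
      have : b.x = h.left.x + l * h.left.x ^ 3 ^ 2 := rfl
      rw [this]
      have h1 : (h.left.x + l * h.left.x ^ 3 ^ 2) ^ 9 = h.left.x ^ 9 + (l * h.left.x ^ 3 ^ 2) ^ 9 :=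
        add_pow_three_pow _ _ 2
      rw [h1]
      have h2 : l * (h.left.x ^ 9 + (l * h.left.x ^ 3 ^ 2) ^ 9) =
          l * h.left.x ^ 9 + (l ^ 5) ^ 2 * h.left.x ^ 81 := by ring
      rw [h2, hf.1, pow_81]
      ring
    have hy : l * b.y ^ 9 = b.y := by
      have : b.y = h.left.y + l * h.left.y ^ 3 ^ 2 := rfl
      rw [this]
      have h1 : (h.left.y + l * h.left.y ^ 3 ^ 2) ^ 9 = h.left.y ^ 9 + (l * h.left.y ^ 3 ^ 2) ^ 9 :=
        add_pow_three_pow _ _ 2
      rw [h1]
      have h2 : l * (h.left.y ^ 9 + (l * h.left.y ^ 3 ^ 2) ^ 9) =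
          l * h.left.y ^ 9 + (l ^ 5) ^ 2 * h.left.y ^ 81 := by ring
      rw [h2, hf.1, pow_81]
      ring
    have h0 : b.x ^ 9 * b.y - b.x * b.y ^ 9 = 0 := by
      apply mul_left_cancel₀ hl0
      linear_combination b.y * hx - b.x * hy
    have h1 : t b.x * s b.y - s b.x * t b.y = 0 := by
      rw [s_apply, s_apply, t_apply, t_apply]
      have h2 : (b.x ^ 9 * b.y - b.x * b.y ^ 9) ^ 3 = (b.x ^ 9 * b.y) ^ 3 - (b.x * b.y ^ 9) ^ 3 :=
        sub_pow_three_pow _ _ 1
      rw [h0] at h2
      linear_combination -h2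
    rw [h1]
    simp [onePt]
  calc h ^ 6 = (h * h) ^ 3 := by rw [← sq, ← pow_mul]
    _ = 1 := by rw [hsq, ← map_pow, hcube, map_one]

theorem pow_five {h : H} {l : F} (hl : l ≠ 1) (hf : Form l 0 h.right.1) : h ^ 5 = 1 := by
  have hl0 := ne_zero_of_pow hf.1
  have hκ : h.right ^ 5 = 1 := by
    apply Subtype.ext
    apply form_unit
    have h1 : ∀ n : ℕ, Form (l ^ n) 0 (h.right.1 ^ n) := by
      intro n
      induction n with
      | zero => rw [pow_zero, pow_zero]; exact form_one
      | succ n ih =>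
        have := ih.mul hf
        rw [pow_succ, pow_succ]
        simpa using this
    have h2 := h1 5
    rw [hf.1] at h2
    exact h2
  have hright : (h ^ 5).right = 1 := by rw [pow_right, hκ]
  have hc : h * h ^ 5 = h ^ 5 * h := (pow_mul_comm' h 5).symm
  have hleft := congrArg SemidirectProduct.left hc
  rw [SemidirectProduct.mul_left, SemidirectProduct.mul_left, hright, map_one,
    MulAut.one_apply] at hleft
  set c : A := (h ^ 5).left with hcdef
  have hleft' : h.left * act l 0 c = c * h.left := by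
    rw [← hleft, ← hf.2]
    rfl
  have hl3 : l ^ 3 ≠ 1 := by
    intro h3
    apply hl
    calc l = l * l ^ 5 := by rw [hf.1, mul_one]
      _ = (l ^ 3) ^ 2 := by ring
      _ = 1 := by rw [h3, one_pow]
  have hl4 : l ^ 4 ≠ 1 := by
    intro h4
    apply hl
    calc l = l * l ^ 4 := by rw [h4, mul_one]
      _ = l ^ 5 := by ring
      _ = 1 := hf.1
  have cancel : ∀ {r z : F}, r ≠ 1 → r * z = z → z = 0 := by
    intro r z hr h
    have : (r - 1) * z = 0 := by rw [sub_mul, h, one_mul, sub_self]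
    rcases mul_eq_zero.1 this with h1 | h1
    · exact absurd (sub_eq_zero.1 h1) hr
    · exact h1
  rw [mul_def, mul_def] at hleft'
  have em := congrArg Pt.m hleft'
  have ex := congrArg Pt.x hleft'
  have ey := congrArg Pt.y hleft'
  have e1 := congrArg Pt.u1 hleft'
  have e2 := congrArg Pt.u2 hleft'
  have e3 := congrArg Pt.u3 hleft'
  have e4 := congrArg Pt.u4 hleft'
  have ew := congrArg Pt.w hleft'
  simp only [mulPt, act, pow_zero, pow_one] at em ex ey e1 e2 e3 e4 ew
  have cm : c.m = 0 := cancel hl (by linear_combination em)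
  have cx : c.x = 0 := cancel hl (by linear_combination ex)
  have cy : c.y = 0 := cancel hl (by linear_combination ey)
  simp only [cm, cx, cy, map_zero, mul_zero, zero_mul, add_zero, zero_add, sub_zero] at e1 e2 e3 e4 ew
  have c1 : c.u1 = 0 := cancel hl4 (by linear_combination e1)
  have c2 : c.u2 = 0 := cancel hl3 (by linear_combination e2)
  have c3 : c.u3 = 0 := cancel hl3 (by linear_combination e3)
  have c4 : c.u4 = 0 := cancel hl4 (by linear_combination e4)
  simp only [c1, c2, c3, c4, map_zero, mul_zero, zero_mul, add_zero, zero_add, sub_zero] at ew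
  have cw : c.w = 0 := cancel hl (by linear_combination ew)
  rw [eq_inl hright]
  have hc1 : c = 1 := by
    rw [one_def]
    exact Pt.ext cm c1 c2 c3 c4 cw cx cy
  rw [← hcdef, hc1, map_one]

theorem pow_cases (h : H) : h ^ 9 = 1 ∨ h ^ 5 = 1 ∨ h ^ 12 = 1 := by
  obtain ⟨l, j, hf⟩ := h.right.2
  have hf' := hf.mod
  have hj : j % 4 < 4 := Nat.mod_lt _ (by norm_num)
  generalize j % 4 = i at hf' hj
  interval_cases i
  · by_cases hl : l = 1
    · left
      subst hl
      have h1 : h.right = 1 := Subtype.ext (form_unit hf')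
      rw [eq_inl h1, ← map_pow, pow_nine, map_one]
    · exact Or.inr (Or.inl (pow_five hl hf'))
  · right; right
    have h1 : (h ^ 2).right.1 = h.right.1 * h.right.1 := by
      rw [pow_right, sq]
      rfl
    have h2 := pow_six (h := h ^ 2) (l := l * l ^ 3 ^ 1) (by rw [h1]; exact hf'.mul hf')
    rwa [← pow_mul] at h2
  · right; right
    rw [show 12 = 6 * 2 from rfl, pow_mul, pow_six hf', one_pow]
  · right; right
    have h1 : (h ^ 2).right.1 = h.right.1 * h.right.1 := by
      rw [pow_right, sq]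
      rfl
    have h2 := pow_six (h := h ^ 2) (l := l * l ^ 3 ^ 3) (by rw [h1]; exact (hf'.mul hf').mod)
    rwa [← pow_mul] at h2

theorem exists_zeta : ∃ z : F, z ^ 5 = 1 ∧ z ≠ 1 := by
  classical
  have hc : Fintype.card Fˣ = 80 := by
    rw [Fintype.card_units, card_F]
  have : Fact (Nat.Prime 5) := ⟨by norm_num⟩
  obtain ⟨u, hu⟩ := exists_prime_orderOf_dvd_card 5 (show 5 ∣ Fintype.card Fˣ by rw [hc]; norm_num)
  refine ⟨(u : F), ?_, ?_⟩
  · rw [← Units.val_pow_eq_pow_val, ← hu, pow_orderOf_eq_one, Units.val_one]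
  · intro h
    rw [Units.val_eq_one] at h
    rw [h, orderOf_one] at hu
    norm_num at hu

theorem exists_nine : ∃ h : H, orderOf h = 9 := by
  obtain ⟨z, hz, hz1⟩ := exists_zeta
  refine ⟨SemidirectProduct.inl (⟨1, 0, 0, 0, 0, 0, z, 1⟩ : Pt F), ?_⟩
  rw [orderOf_injective _ SemidirectProduct.inl_injective]
  apply orderOf_eq_prime_pow (p := 3) (n := 1)
  · rw [pow_one, pow_three]
    intro h
    have h1 := congrArg Pt.w h
    rw [one_def] at h1
    simp only [onePt, s_apply, t_apply, one_pow, mul_one] at h1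
    have hz0 := ne_zero_of_pow hz
    have h2 : z ^ 2 * (z - 1) = 0 := by
      have h27 : z ^ 27 = z ^ 2 := by
        rw [show 27 = 5 * 5 + 2 from rfl, pow_add, pow_mul, hz, one_pow, one_mul]
      rw [h27] at h1
      linear_combination h1
    rcases mul_eq_zero.1 h2 with h3 | h3
    · exact (pow_ne_zero 2 hz0) h3
    · exact hz1 (sub_eq_zero.1 h3)
  · exact pow_nine _

theorem exists_five : ∃ h : H, orderOf h = 5 := by
  obtain ⟨z, hz, hz1⟩ := exists_zeta
  have : Fact (Nat.Prime 5) := ⟨by norm_num⟩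
  have hf : Form z 0 (autOf z hz 0) := ⟨hz, fun a => autOf_apply _ _ _ a⟩
  refine ⟨SemidirectProduct.inr ⟨autOf z hz 0, ⟨z, 0, hf⟩⟩, ?_⟩
  apply orderOf_eq_prime
  · exact pow_five hz1 hf
  · intro h
    have h1 := congrArg SemidirectProduct.right h
    have h2 : autOf z hz 0 = 1 := congrArg Subtype.val h1
    have h3 := congrArg (fun κ : MulAut A => (κ ⟨1, 0, 0, 0, 0, 0, 0, 0⟩).m) h2
    apply hz1
    have h4 : z * 1 ^ 3 ^ 0 = 1 := h3
    rwa [one_pow, mul_one] at h4

theorem exists_twelve : ∃ h : H, orderOf h = 12 := by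
  obtain ⟨z, hz, hz1⟩ := exists_zeta
  have : Fact (Nat.Prime 3) := ⟨Nat.prime_three⟩
  have hf : Form 1 1 (autOf 1 (one_pow _) 1) := ⟨one_pow _, fun a => autOf_apply _ _ _ a⟩
  let g : K := ⟨autOf 1 (one_pow _) 1, ⟨1, 1, hf⟩⟩
  let a : A := (⟨1, 0, 0, 0, 0, 0, 0, 0⟩ : Pt F)
  have hga : g.1 a = a := by
    change act 1 1 a = a
    apply Pt.ext <;> simp [act, a]
  have hg : orderOf g = 4 := by
    have hf2 : Form (1 * 1 ^ 3 ^ 1) (1 + 1) (g.1 * g.1) := hf.mul hf
    apply orderOf_eq_prime_pow (p := 2) (n := 1)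
    · rw [pow_one, sq]
      intro h
      have h1 : g.1 * g.1 = 1 := congrArg Subtype.val h
      rw [h1] at hf2
      have h2 := (hf2.unique form_one).2 z
      apply hz1
      have h3 : z ^ 9 = z := by
        have : z ^ 3 ^ 0 = z := by rw [pow_zero, pow_one]
        rw [this] at h2
        exact h2
      have h4 : z * z ^ 3 = z * 1 := by
        calc z * z ^ 3 = z ^ 5 * z ^ 4 := by rw [hz]; ring
          _ = z ^ 9 := by ring
          _ = z * 1 := by rw [h3, mul_one]
      have h5 := mul_left_cancel₀ (ne_zero_of_pow hz) h4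
      calc z = z * (z ^ 3) ^ 3 := by rw [h5, one_pow, mul_one]
        _ = (z ^ 5) ^ 2 := by ring
        _ = 1 := by rw [hz, one_pow]
    · apply Subtype.ext
      apply form_unit
      have h1 := (hf2.mul hf2).mod
      have h2 : g.1 ^ (2 ^ (1 + 1)) = g.1 * g.1 * (g.1 * g.1) := by
        rw [show (2 : ℕ) ^ (1 + 1) = 2 * 2 from rfl, pow_mul, sq (g.1 ^ 2), sq g.1]
      change Form 1 0 (g.1 ^ (2 ^ (1 + 1)))
      rw [h2]
      simpa using h1
  have ha : orderOf a = 3 := by
    apply orderOf_eq_prime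
    · rw [pow_three, one_def]
      simp [a, onePt]
    · intro h
      have h1 := congrArg Pt.m h
      exact one_ne_zero h1
  refine ⟨SemidirectProduct.inl a * SemidirectProduct.inr g, ?_⟩
  have hcomm : Commute (SemidirectProduct.inl a : H) (SemidirectProduct.inr g) := by
    apply SemidirectProduct.ext
    · simp [hga]
    · simp
  rw [hcomm.orderOf_mul_eq_mul_orderOf_of_coprime]
  · rw [orderOf_injective _ SemidirectProduct.inl_injective,
      orderOf_injective _ SemidirectProduct.inr_injective, ha, hg]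
  · rw [orderOf_injective _ SemidirectProduct.inl_injective,
      orderOf_injective _ SemidirectProduct.inr_injective, ha, hg]
    norm_num

theorem range_H : Set.range (orderOf : H → ℕ) = {1, 2, 3, 4, 5, 6, 9, 12} := by
  ext m
  constructor
  · rintro ⟨h, rfl⟩
    rcases pow_cases h with h1 | h1 | h1
    · have hd := orderOf_dvd_of_pow_eq_one h1
      have hle := Nat.le_of_dvd (by norm_num) hd
      generalize orderOf h = l at hd hle ⊢
      interval_cases l <;> first | (exfalso; revert hd; norm_num; done) | simp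
    · have hd := orderOf_dvd_of_pow_eq_one h1
      rcases (Nat.dvd_prime (by norm_num : Nat.Prime 5)).1 hd with h | h <;> simp [h]
    · have hd := orderOf_dvd_of_pow_eq_one h1
      have hle := Nat.le_of_dvd (by norm_num) hd
      generalize orderOf h = l at hd hle ⊢
      interval_cases l <;> first | (exfalso; revert hd; norm_num; done) | simp
  · intro hm
    obtain ⟨x, hx⟩ := exists_twelve
    rcases hm with rfl | rfl | rfl | rfl | rfl | rfl | rfl | rfl
    · exact ⟨1, orderOf_one⟩
    · refine ⟨x ^ 6, ?_⟩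
      rw [orderOf_pow' _ (by norm_num), hx]
      norm_num
    · refine ⟨x ^ 4, ?_⟩
      rw [orderOf_pow' _ (by norm_num), hx]
      norm_num
    · refine ⟨x ^ 3, ?_⟩
      rw [orderOf_pow' _ (by norm_num), hx]
      norm_num
    · exact exists_five
    · refine ⟨x ^ 2, ?_⟩
      rw [orderOf_pow' _ (by norm_num), hx]
      norm_num
    · exact exists_nine
    · exact ⟨x, hx⟩

end Cfsg.Agent.H367.TwoFrob
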